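import Cfsg.Agent.H95.ParBase

/-! Involutions of the Monster over elements of the Conway group. -/

set_option autoImplicit false

namespace Cfsg.Agent.H95.Par

open Cfsg Subgroup Cfsg.Agent.H48 Cfsg.Agent.H48.Rec Cfsg.Agent.H49 Cfsg.Agent.H74.Mon
open Cfsg.Agent.H97.Gr (DD ZZ)
open Cfsg.Agent.H97.Yt (M)

section

variable {G : Type*} [Group G] {Q S : Subgroup G} {z s : G}
  {θ : centralizer ({z} : Set G) →* Spor.Co1} {R : Lam → G → Prop}

theorem tw_of_conj (h : MD Q z θ R) {x g : Co0} {y : G} (a : Ass θ g y)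
    (e : IsConj (mk1 x) (mk1 g)) : ∃ θ' R', MD Q z θ' R' ∧ Ass θ' x y := by
  obtain ⟨c, hc⟩ := isConj_iff.1 e.symm
  obtain ⟨c, rfl⟩ := mk1_surj c
  exact ⟨_, _, h.twist c, ass_of_eq (a.twist c) (by rw [map_mul, map_mul, map_inv, hc])⟩

theorem cent_conj {V : Subgroup G} {n y : G} (hn : n ∈ normalizer (V : Set G))
    (hy : y ∈ centralizer (V : Set G)) : n * y * n⁻¹ ∈ centralizer (V : Set G) := fun v hv => by
  have := hy _ (conj_mem_of_mem_normalizer (inv_mem hn) hv)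
  calc v * (n * y * n⁻¹) = n * (n⁻¹ * v * n⁻¹⁻¹ * y) * n⁻¹ := by group
    _ = _ := by rw [this]; group

theorem pm_conj [Finite G] (h : MS Q S z s θ R) {y n : G}
    (hy : y ∈ centralizer (closure ({z, s} : Set G) : Set G)) (hn : n ∈ Q ⊔ S) {τ : M24}
    (p : Pm24 θ y τ) : Pm24 θ (n * y * n⁻¹) τ := by
  obtain ⟨π, h1, h2⟩ := h.exists_piN
  have hn' := h.p.X_le_normalizer_V hn
  have hy' := centralizer_le_normalizer _ hy
  refine (h2 (⟨n, hn'⟩ * ⟨y, hy'⟩ * ⟨n, hn'⟩⁻¹) τ (cent_conj hn' hy)).1 ?_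
  rw [map_mul, map_mul, map_inv, h1 _ hn, (h2 ⟨y, hy'⟩ τ hy).2 p]
  simp

theorem ut_comm (h : MD Q z θ R) {y e : G} (a : Ass θ ut y) (yy : y * y = 1) (he : e ∈ Q)
    (ee : e * e = 1) (e1 : y * e * y⁻¹ = e * z) : False := by
  obtain ⟨v, r⟩ := h.ex1 e he
  obtain ⟨w, c⟩ := dec_ut ((h.uniq r (h.act' a r)).2 (Or.inr e1))
  have r' := h.cg r c
  have := mem_centralizer_singleton_iff.1 (cm_mem h a yy ((h.sq_iff r').1 ee) e r')
  rw [← this, mul_inv_cancel_right] at e1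
  exact h.hQ.mul_z_ne e e1.symm

theorem neg_key [Finite G] (h : MS Q S z s θ R) {y e n : G} (yy : y * y = 1)
    (hy : y ∈ centralizer (closure ({z, s} : Set G) : Set G)) {τ : M24} (p : Pm24 θ y τ)
    (hτ : H42.fixSet τ = ∅) (he : e ∈ Q ⊓ S) (hn : n ∈ Q ⊔ S)
    (e1 : n * (e⁻¹ * (y * e * y⁻¹)) * n⁻¹ = z) : False := by
  obtain ⟨_, ⟨c, hc, rfl⟩, a⟩ := pm_conj h hy hn p
  have he' := conj_mem_of_mem_normalizer (h.p.X_le_normalizer_E hn) he
  have t : tr8 (signEl c hc * permEl τ) = 0 := by rw [H10.CoI.tr8_mono, hτ]; simp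
  have yy' : n * y * n⁻¹ * (n * y * n⁻¹) = 1 := by rw [conj_mul, yy, mul_one, mul_inv_cancel]
  have e2 : n * y * n⁻¹ * (n * e * n⁻¹) * (n * y * n⁻¹)⁻¹ = n * e * n⁻¹ * z := by
    rw [← e1]; group
  rcases sq_cases h.toMD a yy' with hg | hg
  · rcases H10.CoI.cases_of_sq hg with k | k | k
    · exact mk1_ne_one (by rw [t]; norm_num) (by rw [t]; norm_num) k
    · have := (H10.CoI.inv_z0 k).2
      omega
    · obtain ⟨θ', R', h', a'⟩ := tw_of_conj h.toMD a k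
      exact ut_comm h' a' yy' he'.1 (h.p.E_sq he') e2
  · obtain ⟨v, r⟩ := h.ex1 _ he'.1
    have := comm_of_neg h.toMD a yy' hg r ((h.uniq r (h.act' a r)).2 (Or.inr e2))
    rw [← this, mul_inv_cancel_right] at e2
    exact h.hQ.mul_z_ne _ e2.symm

/-- the elements of `Q ⊔ S` moving `s` and `s z` to `z` -/
theorem exists_move (p : Pair Q S z s) : (∃ n ∈ Q ⊔ S, n * s * n⁻¹ = z) ∧
    ∃ n ∈ Q ⊔ S, n * (s * z) * n⁻¹ = z := by
  obtain ⟨a, ha, e1⟩ := p.hQ.exists_conj_eq_mul_z p.xQ p.hS.ne p.ne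
  obtain ⟨b, hb, e2⟩ := p.hS.exists_conj_eq_mul_z p.zS p.hQ.ne p.ne.symm
  have e3 : b * (s * z) * b⁻¹ = z := by
    calc _ = b * s * b⁻¹ * (b * z * b⁻¹) := by group
      _ = s * (s * z) := by rw [e2, p.hS.cen b hb, p.four.comm]; group
      _ = z := by rw [← mul_assoc, p.hS.zz, one_mul]
  refine ⟨⟨b * a, mul_mem (mem_sup_right hb) (mem_sup_left ha), ?_⟩, b, mem_sup_right hb, e3⟩
  rw [← e3, ← e1]; group

theorem neg_gen [Finite G] (h : MD Q z θ R) {g : Co0} {y : G} (a : Ass θ g y) (yy : y * y = 1) :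
    g * g = 1 := by
  refine (sq_cases h a yy).resolve_right fun hg => ?_
  obtain ⟨g1, hg1, f1, c, hc, v, h1, h2⟩ := meet_neg
  obtain ⟨g₀, rfl⟩ := isConj_iff.1 (H10.CoI.conj_of_neg hg hg1)
  have h' := h.twist g₀
  have a' := a.twist g₀
  obtain ⟨s, S, p, r⟩ := exists_pair h'
  obtain ⟨e, re⟩ := h'.ex2 (signEl c hc • v - v)
  have eS := meet_mem h' p r hc h1 e re
  have ys := comm_of_neg h' a' yy hg1 r f1
  obtain ⟨τ, d, hd, eq⟩ := mono_structure (mem_mono_of_cong f1)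
  rw [eq] at a' hg1
  have hτ : H42.fixSet τ = ∅ := by
    refine Finset.eq_empty_of_forall_notMem fun i hi => ?_
    have k1 : permEl τ • e8 i = e8 i := by rw [permEl_e8]; exact congrArg e8 (H42.mem_fixSet.1 hi)
    have k2 := congrArg (· • e8 i) hg1
    simp only [mul_smul, k1, negEl_smul, signEl_e8] at k2
    split_ifs at k2 with hi'
    · rw [co_neg, k1, co_neg, signEl_e8, if_pos hi', neg_neg] at k2
      exact H49.e8_ne_neg i i k2
    · rw [k1, signEl_e8, if_neg hi'] at k2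
      exact H49.e8_ne_neg i i k2
  have ms : MS Q S z s _ _ := ⟨h', r, p⟩
  have hy : y ∈ centralizer (closure ({z, s} : Set G) : Set G) :=
    Four.mem_centralizer.2 ⟨a.comm, ys.symm⟩
  have pm : Pm24 _ y τ := ⟨_, signEl_mem_Signs d hd, a'⟩
  rw [← eq] at a'
  obtain ⟨⟨n, hn, e1⟩, n', hn', e2⟩ := exists_move p
  rcases (h'.uniq (h'.mul re r) (h'.act' a' re)).1 h2.symm with e3 | e3
  · exact neg_key ms yy hy pm hτ ⟨h'.mem re, eS⟩ hn (by rw [e3, inv_mul_cancel_left, e1])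
  · exact neg_key ms yy hy pm hτ ⟨h'.mem re, eS⟩ hn'
      (by rw [e3, mul_assoc e, inv_mul_cancel_left, e2])

end

theorem neg : NegStmt := fun _ _ _ h _ _ a yy => neg_gen h a yy

theorem out : OutStmt := by
  intro z θ R h g y a hy hQ
  have yy := DD_sq hy
  rcases H10.CoI.cases_of_sq (neg_gen h a yy) with k | k | k
  · exact (hQ ((h.ass_mem_iff a).2 ((QuotientGroup.eq_one_iff g).1 k))).elim
  · exact k
  exfalso
  obtain ⟨θ', R', h', a'⟩ := tw_of_conj h a k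
  obtain ⟨w, hw⟩ := H74.Ms.exists_odd_ut
  obtain ⟨q, r⟩ := h'.ex2 w
  have r' := h'.mul r (h'.act' a' (h'.inv r))
  have fx : H49.Fix ut (w + ut • w) := by
    have : ut • (w + ut • w) = w + ut • w := by
      rw [co_add, ← mul_smul, ut_sq, one_smul, add_comm]
    change cong _ _
    rw [this]
    exact cong.refl _
  have c := Ch.a0 h' a' hy hQ r' fx
  refine hw ((h'.sq_iff r').1 ?_)
  have y1 : y⁻¹ = y := inv_eq_of_mul_eq_one_right yy
  rw [y1] at c ⊢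
  calc q * (y * q⁻¹ * y) * (q * (y * q⁻¹ * y)) = q * (y * q⁻¹ * (y * (q * (y * q⁻¹ * y)))) := by
        group
    _ = q * (y * q⁻¹ * (q * (y * q⁻¹ * y) * y)) := by rw [c]
    _ = q * ((y * y) * q⁻¹ * (y * y)) := by group
    _ = 1 := by rw [yy]; group

/-- an element over twice a word which is neither empty nor everything -/
theorem not_mem_E {G : Type*} [Group G] [Finite G] {Q S : Subgroup G} {z s : G}
    {θ : centralizer ({z} : Set G) →* Spor.Co1} {R : Lam → G → Prop} (h : MS Q S z s θ R)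
    {v : Lam} {t : G} (r : R v t) {c : Rk.WG} (w : Rk.Wv c v) (h0 : c.1.card ≠ 0)
    (h1 : c.1.card ≠ 24) : t ∉ S := fun ht => by
  obtain ⟨u, r', w'⟩ := (Rk.mem_E_iff h).1 ⟨h.mem r, ht⟩
  rcases w'.of_cong w ((h.uniq r' r).2 (Or.inl rfl)) with e | e
  · exact h0 (by rw [e]; rfl)
  · exact h1 (by rw [e, one_mul]; rfl)

theorem ex : ExStmt := by
  intro z θ R h
  obtain ⟨s, r⟩ := h.ex2 (e8 none)
  have ms := Ch.ms h r
  have sZ := (Ch.t4 h r (sqNorm_e8 _)).1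
  obtain ⟨t, rt⟩ := h.ex2 (twoInd _ isWord_oct0)
  have tD : t ∈ DD := Ch.t2 h rt (by rw [sqNorm_twoInd, H42.oct0_mem.2]; rfl)
  have ts : t * s = s * t := (h.comm_iff rt r).2 (by
    rw [dot_e8, twoInd_apply]; split_ifs <;> norm_num)
  have tS : t ∉ Qz s := not_mem_E ms rt (Rk.wv_two ⟨_, isWord_oct0⟩)
    (by rw [H42.oct0_mem.2]; norm_num) (by rw [H42.oct0_mem.2]; norm_num)
  obtain ⟨n, -, e⟩ := (exists_move ms.p).1
  have c : n * t * n⁻¹ * z = z * (n * t * n⁻¹) := by rw [← e, conj_mul, conj_mul, ts]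
  obtain ⟨g, a⟩ := exists_ass (θ := θ) c
  have nQ : n * t * n⁻¹ ∉ Qz z := fun k => tS (by
    rw [← e, Qz_cj sZ, mem_cj] at k
    simpa [mul_assoc] using k)
  obtain ⟨c, hc⟩ := isConj_iff.1 (out _ _ _ h g _ a (DD_cj n tD) nQ).symm
  obtain ⟨c, rfl⟩ := mk1_surj c
  obtain ⟨k, b⟩ := h.exists_ass' c
  exact ⟨_, DD_cj k (DD_cj n tD), ass_of_eq ((b.mul a).mul b.inv)
    (by rw [map_mul, map_mul, map_inv, hc]; rfl)⟩

end Cfsg.Agent.H95.Par
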