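import Cfsg.Agent.H95.ParNeg

/-! The invariant set of sixteen involutions attached to a four-group. -/

set_option autoImplicit false

namespace Cfsg.Agent.H95.Par

open Cfsg Subgroup Cfsg.Agent.H48 Cfsg.Agent.H48.Rec Cfsg.Agent.H49 Cfsg.Agent.H74.Mon
open Cfsg.Agent.H97.Gr (DD ZZ)
open Cfsg.Agent.H97.Yt (M)
open Cfsg.Agent.H74.Ms (VV mkV nV mk_eq)

theorem comm_of_sq {G : Type*} [Group G] {a b : G} (ha : a * a = 1) (hb : b * b = 1)
    (h : a * b * (a * b) = 1) : a * b = b * a := by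
  calc a * b = a * (a * b * (a * b)) * b := by rw [h, mul_one]
    _ = (a * a) * b * a * (b * b) := by group
    _ = b * a := by rw [ha, hb]; group

variable {s : M} {θ : Th s} {R : Lam → M → Prop}

theorem zt_not_mem (h : Ch s θ R) {t : M} (a : Ass θ zt t) : t ∉ Qz s := fun k =>
  z0_ne_one ((QuotientGroup.eq_one_iff _).2 ((h.ass_mem_iff a).1 k))

theorem mul_ZZ (h : Ch s θ R) {t : M} (tD : t ∈ DD) (c : t * s = s * t) (hQ : t ∉ Qz s) :
    t * s ∈ ZZ := by
  have ss := h.hQ.zz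
  refine (two ?_ fun e => hQ ?_).resolve_left fun k => hQ (cl h.zz tD (c ▸ k))
  · calc _ = t * (s * t) * s := by group
      _ = (t * t) * (s * s) := by rw [← c]; group
      _ = 1 := by rw [DD_sq tD, ss, one_mul]
  · rw [eq_inv_of_mul_eq_one_left e]
    exact inv_mem h.hQ.mem

theorem lem_L (h : Ch s θ R) {t : M} (tD : t ∈ DD) (a : Ass θ zt t) {l : M} {w : Lam}
    (r : R (w + zt • w) l) : (t * l ∈ DD ∧ t * l * s ∈ ZZ) ∨ (t * l ∈ ZZ ∧ t * l * s ∈ DD) := by
  obtain ⟨q, rq⟩ := h.ex2 w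
  have r0 := h.mul (h.act' a (h.inv rq)) rq
  have tt := DD_sq tD
  have e1 : t * (t * q⁻¹ * t⁻¹ * q) = q⁻¹ * t * q⁻¹⁻¹ := by
    rw [inv_eq_of_mul_eq_one_right tt]
    calc _ = (t * t) * q⁻¹ * t * q := by group
      _ = _ := by rw [tt]; group
  have e2 : t * (t * q⁻¹ * t⁻¹ * q) * s = q⁻¹ * (t * s) * q⁻¹⁻¹ := by
    rw [e1, inv_inv, mul_assoc, h.hQ.cen q (h.mem rq)]; group
  have k1 := e1 ▸ DD_cj q⁻¹ tD
  have k2 := e2 ▸ ZZ_cj q⁻¹ (mul_ZZ h tD a.comm (zt_not_mem h a))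
  rw [add_comm] at r0
  rcases (h.uniq r0 r).1 (cong.refl _) with e | e <;> rw [e]
  · exact .inl ⟨k1, k2⟩
  · refine .inr ⟨by rwa [← mul_assoc], ?_⟩
    rwa [← mul_assoc, mul_assoc _ s, h.hQ.zz, mul_one]

theorem cong_shift {u v x : Lam} (c : cong (v + u) x) : cong u (v + x) := by
  obtain ⟨y, e⟩ := c
  exact ⟨y + v, by rw [e]; abel⟩

theorem cong_shift' {u v x : Lam} (c : cong u (v + x)) : cong (v + u) x := by
  obtain ⟨y, e⟩ := c
  exact ⟨y - v, by rw [eq_sub_of_add_eq' e]; abel⟩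

theorem theta (hC : CntStmt) : ThetaStmt := by
  classical
  intro s r θ R h rZ rsZ a
  obtain ⟨t, tD, b⟩ := ex _ _ _ h
  have tt := DD_sq tD
  have ss := h.hQ.zz
  have rr := ZZ_sq rZ
  obtain ⟨v, rv⟩ := h.ex1 _ (ass_sub h b a)
  generalize hq : t⁻¹ * r = q0 at rv
  obtain rfl : r = t * q0 := by rw [← hq]; group
  have fv := fix_of_sq h b tt rv rr
  have c0 := Ch.a0 h b tD (zt_not_mem h b) rv fv
  have qq : q0 * q0 = 1 := by
    calc _ = (t * t) * (q0 * q0) := by rw [tt, one_mul]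
      _ = t * (t * q0) * q0 := by group
      _ = 1 := by rw [← c0, ← rr]; group
  have nL : ¬ ∃ w, cong v (w + zt • w) := fun ⟨w, c⟩ => by
    rcases lem_L h tD b (h.cg rv c) with k | k
    exacts [disj k.1 rZ, disj k.2 rsZ]
  obtain ⟨c1, c2⟩ := hC v fv ((h.sq_iff rv).1 qq) nL
  set r := t * q0 with hr
  have rs := a.comm
  have key : ∀ w ∈ Theta s r, w * r = r * w ∧ ∃ u, R u (w * r) ∧ Cos v u := by
    rintro w ⟨wZ, h1, h2, h3⟩
    have ww := ZZ_sq wZ
    have ws := comm_of_sq ww ss (DD_sq h1)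
    have wr := comm_of_sq ww rr (DD_sq h2)
    have uQ : w * r ∈ Qz s := cl h.zz h2 (by rwa [← mul_assoc, ← ws, mul_assoc, ← rs])
    obtain ⟨u, ru, nu⟩ := Ch.of_DD h h2 uQ
    refine ⟨wr, u, ru, nu, ?_⟩
    have e : w * s = t * (q0 * (w * r) * s) := by
      calc w * s = (r * r) * w * s := by rw [rr, one_mul]
        _ = r * (w * r) * s := by rw [wr]; group
        _ = _ := by rw [hr]; group
    have r1 := h.cls (h.mul rv ru)
    have b' : Ass θ zt (w * s) := e ▸ ass_mul h b (h.mem r1)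
    have fu : H49.Fix zt u := h.cong_of_comm ru a (by rw [← mul_assoc, ← wr])
    have fx : H49.Fix zt (v + u) := by
      change cong _ _
      rw [co_add]
      exact cong.add fv fu
    obtain ⟨x, c⟩ := perp_zt fx fun y fy => by
      obtain ⟨q, rq⟩ := h.ex2 y
      have k1 := Ch.a0 h b tD (zt_not_mem h b) rq fy
      have k2 := Ch.a0 h b' h1 (zt_not_mem h b') rq fy
      refine (h.comm_iff r1 rq).1 (mul_left_cancel (a := t) ?_)
      rw [← mul_assoc, ← e, ← k2, e, ← mul_assoc, k1]; group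
    exact ⟨x, cong_shift c⟩
  have inj : ∀ w ∈ Theta s r, ∀ w' ∈ Theta s r, ∀ u u', R u (w * r) → R u' (w' * r) →
      cong u u' → w = w' := by
    intro w hw w' hw' u u' r1 r2 c
    rcases (h.uniq r1 r2).1 c with e | e
    · exact (mul_right_cancel e).symm
    · rw [mul_assoc w, rs, ← mul_assoc w] at e
      exact (disj hw.2.1 (mul_right_cancel e ▸ hw'.1)).elim
  have sur : ∀ u x, sqNorm u.1 = 32 → R u x → r * x ∈ ZZ → r * x * s ∈ DD →
      ∃ w ∈ Theta s r, R u (w * r) := by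
    intro u x nu rx k1 k2
    have xD := Ch.t2 h rx nu
    have c := comm_of_sq rr (DD_sq xD) (ZZ_sq k1)
    have e : r * x * r = x := by rw [c, mul_assoc, rr, mul_one]
    refine ⟨r * x, ⟨k1, k2, e.symm ▸ xD, ?_⟩, e.symm ▸ rx⟩
    rw [← mul_assoc, e]
    exact Ch.t2 h (h.cls rx) nu
  refine ⟨?_, fun w hw w' hw' ne => ?_⟩
  · let F : M → VV := fun w => if k : ∃ u, R u (w * r) then mkV k.choose else 0
    have hF : ∀ w u, R u (w * r) → F w = mkV u := fun w u k => by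
      have k' : ∃ u, R u (w * r) := ⟨u, k⟩
      simp only [F, dif_pos k']
      exact mk_eq.2 ((h.uniq k'.choose_spec k).2 (Or.inl rfl))
    rw [← c1, ← Set.InjOn.ncard_image (f := F)]
    · congr 1
      ext x
      constructor
      · rintro ⟨w, hw, rfl⟩
        obtain ⟨-, u, ru, cu⟩ := key w hw
        exact ⟨u, cu, (hF w u ru).symm⟩
      · rintro ⟨u, ⟨nu, y, c⟩, rfl⟩
        obtain ⟨x, rx⟩ := h.ex2 u
        have : ∃ w ∈ Theta s r, R u (w * r) := by
          rcases lem_L h tD b (h.cg (h.mul rv rx) (cong_shift' c)) with k | k <;>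
            rw [← mul_assoc, ← hr] at k
          · exact sur u _ nu (h.cls rx) (by rw [← mul_assoc]; exact k.2)
              (by rw [← mul_assoc, mul_assoc _ s, ss, mul_one]; exact k.1)
          · exact sur u _ nu rx k.1 k.2
        obtain ⟨w, hw, k⟩ := this
        exact ⟨w, hw, hF w u k⟩
    · intro w hw w' hw' e
      obtain ⟨-, u, ru, -⟩ := key w hw
      obtain ⟨-, u', ru', -⟩ := key w' hw'
      exact inj w hw w' hw' u u' ru ru' (mk_eq.1 (by rw [← hF w u ru, ← hF w' u' ru', e]))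
  · obtain ⟨-, u, ru, cu⟩ := key w hw
    obtain ⟨c, u', ru', cu'⟩ := key w' hw'
    have e : w * r * (w' * r) = w * w' := by
      rw [c, mul_assoc, ← mul_assoc r, rr, one_mul]
    exact e ▸ (Ch.t4 h (h.mul ru ru') ((c2 u u' cu cu').resolve_left
      fun k => ne (inj w hw w' hw' u u' ru ru' k))).1

end Cfsg.Agent.H95.Par
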