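import Cfsg.Agent.H95.ParDefs
import Cfsg.Agent.H48.MidK

/-! Charts of the Monster at the involutions of class 2B. -/

set_option autoImplicit false

namespace Cfsg.Agent.H95.Par

open Cfsg Subgroup Cfsg.Agent.H48 Cfsg.Agent.H48.Rec Cfsg.Agent.H49
open Cfsg.Agent.H97.Gr
open Cfsg.Agent.H97.Yt (M)

instance finM : Finite M := finite_Aut_real

theorem Qz_eq {Q : Subgroup M} {z : M} {θ : Th z} {R : Lam → M → Prop} (h : MD Q z θ R) :
    Qz z = Q := le_antisymm (iSup₂_le fun _ ⟨_, _, h'⟩ => H74.Ms.md_le h h')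
      (le_iSup₂_of_le (f := fun (Q : Subgroup M) (_ : ∃ θ R, MD Q z θ R) => Q) Q ⟨θ, R, h⟩ le_rfl)

theorem ch_of {Q : Subgroup M} {z : M} {θ : Th z} {R : Lam → M → Prop} (h : MD Q z θ R) :
    Ch z θ R := by rw [Ch, Qz_eq h]; exact h

theorem DD_cj (g : M) {y : M} (h : y ∈ DD) : g * y * g⁻¹ ∈ DD := (B6b.DD_conj_iff g).2 h

theorem ZZ_cj (g : M) {y : M} (h : y ∈ ZZ) : g * y * g⁻¹ ∈ ZZ := B6b.ZZ_conj g h

theorem DD_sq {y : M} (h : y ∈ DD) : y * y = 1 := B6b.DD_sq h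

theorem disj {y : M} (h : y ∈ DD) : y ∉ ZZ := disj_DD_ZZ h

theorem two {y : M} (h : y * y = 1) (h1 : y ≠ 1) : y ∈ DD ∨ y ∈ ZZ :=
  (H74.Mon.two_real y h).resolve_left h1

theorem ZZ_conj {x y : M} (hx : x ∈ ZZ) (hy : y ∈ ZZ) : IsConj x y := IsConj.trans (IsConj.symm hx) hy

/-- transport of a chart by conjugation -/
theorem Ch.cj {z : M} {θ : Th z} {R : Lam → M → Prop} (h : Ch z θ R) (g : M) :
    ∃ θ', MD (cj (Qz z) g) (g * z * g⁻¹) θ' fun v x => R v (g⁻¹ * x * g) :=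
  H34.MidA.md_map h (MulAut.conj g)

theorem chart {z : M} (hz : z ∈ ZZ) : ∃ θ R, Ch z θ R := by
  obtain ⟨Q, θ, R, h, -⟩ := real_md
  obtain ⟨g, rfl⟩ := B6b.mem_ZZ.1 hz
  obtain ⟨θ', h'⟩ := (ch_of h).cj g
  exact ⟨_, _, ch_of h'⟩

theorem Ch.zz {z : M} {θ : Th z} {R : Lam → M → Prop} (h : Ch z θ R) : z ∈ ZZ :=
  (two h.hQ.zz h.hQ.ne).resolve_left fun hd => by
    have := card_cent hd
    rw [H48.Mid.md_card h] at this
    norm_num at this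

theorem lx {z : M} (hz : z ∈ ZZ) : LX (Qz z) z := let ⟨_, _, h⟩ := chart hz; h.hQ

theorem ZZ_sq {z : M} (hz : z ∈ ZZ) : z * z = 1 := (lx hz).zz

theorem ZZ_ne {z : M} (hz : z ∈ ZZ) : z ≠ 1 := (lx hz).ne

theorem Qz_cj {z : M} (hz : z ∈ ZZ) (g : M) : Qz (g * z * g⁻¹) = cj (Qz z) g :=
  let ⟨_, _, h⟩ := chart hz
  let ⟨_, h'⟩ := h.cj g
  Qz_eq h'

theorem pair {z x : M} (hz : z ∈ ZZ) (hx : x ∈ ZZ) (h : x ∈ Qz z) (ne : x ≠ z) :
    Pair (Qz z) (Qz x) z x :=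
  let ⟨_, _, c⟩ := chart hz
  let ⟨_, _, c'⟩ := chart hx
  H74.Ms.pair_of c c' h (ZZ_conj hz hx) ne

/-- the relation `x ∈ Q_z` is symmetric -/
theorem sym {z x : M} (hz : z ∈ ZZ) (hx : x ∈ ZZ) (h : x ∈ Qz z) : z ∈ Qz x := by
  by_cases e : x = z
  · exact e ▸ (lx hx).mem
  · exact (pair hz hx h e).zS

/-- two elements of class 2A with product in 2B -/
theorem cl {z y : M} (hz : z ∈ ZZ) (hy : y ∈ DD) (h : z * y ∈ DD) : y ∈ Qz z := by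
  obtain ⟨g, e⟩ := B6b.exists_z hz
  obtain ⟨r, -, ε, e'⟩ := B6b.loc_z e hy h
  obtain ⟨Q, θ, R, c, hR⟩ := real_md
  have h1 : g * y * g⁻¹ ∈ Qz (g * z * g⁻¹) := by
    rw [e, e', Qz_eq c]
    have := c.mem (hR r)
    simp only [qq, if_neg one_ne_zero, mul_one] at this
    unfold qq
    split_ifs
    exacts [mul_mem this c.hQ.mem, mul_mem this (one_mem _)]
  rw [Qz_cj hz, mem_cj] at h1
  simpa [mul_assoc] using h1

theorem mem_ZZ_of_order {s m : M} (ss : s * s = 1) (s1 : s ≠ 1)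
    (h : 6 < orderOf (s * (m * s * m⁻¹))) : s ∈ ZZ :=
  (two ss s1).resolve_left fun hd => absurd (orderOf_mul_DD hd (DD_cj m hd)) (by omega)

variable {z : M} {θ : Th z} {R : Lam → M → Prop}

theorem Ch.t4 (h : Ch z θ R) {v : Lam} {x : M} (r : R v x) (hv : sqNorm v.1 = 64) :
    x ∈ ZZ ∧ x ≠ z :=
  let ⟨a, b⟩ := (h.isConj_iff_norm r hv.le).2 hv
  ⟨IsConj.trans h.zz a, b⟩

theorem Ch.t2 (h : Ch z θ R) {v : Lam} {x : M} (r : R v x) (hv : sqNorm v.1 = 32) : x ∈ DD := by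
  refine (two ((h.sq_iff r).2 (by rw [hv])) fun e => ?_).resolve_right fun hx =>
    h.not_isConj_of_norm r hv (ZZ_conj h.zz hx)
  exact h.not_cong_zero (by omega) (by omega) ((h.zero_iff r).2 (.inl e))

theorem Ch.of_ZZ (h : Ch z θ R) {x : M} (hx : x ∈ ZZ) (hQ : x ∈ Qz z) (ne : x ≠ z) :
    ∃ v, R v x ∧ sqNorm v.1 = 64 :=
  let ⟨v, r, hv⟩ := h.exists_short hQ
  ⟨v, r, (h.isConj_iff_norm r hv).1 ⟨ZZ_conj h.zz hx, ne⟩⟩

theorem Ch.of_DD (h : Ch z θ R) {x : M} (hx : x ∈ DD) (hQ : x ∈ Qz z) :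
    ∃ v, R v x ∧ sqNorm v.1 = 32 :=
  let ⟨v, r, hv⟩ := h.exists_short hQ
  ⟨v, r, h.norm_eq_32 r hv (fun e => by have := orderOf_DD hx; rw [e, orderOf_one] at this; omega)
    (DD_sq hx) fun c => disj hx (IsConj.trans h.zz c)⟩

/-- a chart in which `s` lies over the standard frame -/
theorem Ch.ms (h : Ch z θ R) {s : M} (r : R (e8 none) s) : MS (Qz z) (Qz s) z s θ R :=
  have := h.t4 r (by decide +kernel)
  ⟨h, r, pair h.zz this.1 (h.mem r) this.2⟩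

theorem exists_ms {z s : M} (hz : z ∈ ZZ) (hs : s ∈ ZZ) (hQ : s ∈ Qz z) (ne : s ≠ z) :
    ∃ θ R, Ch z θ R ∧ R (e8 none) s :=
  let ⟨_, _, h⟩ := chart hz
  h.exists_twist_e8 hQ (ZZ_conj hz hs) ne

/-- an element of class 2A outside `Q` centralizes the elements over its fixed classes -/
theorem Ch.a0 (h : Ch z θ R) {g : Co0} {y : M} (a : Ass θ g y) (hy : y ∈ DD) (hQ : y ∉ Qz z)
    {v : Lam} {q : M} (r : R v q) (hv : Fix g v) : q * y = y * q := by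
  rcases (h.uniq r (h.act' a r)).1 hv with e | e
  · rw [mul_inv_eq_iff_eq_mul] at e; exact e.symm
  · refine absurd (cl h.zz hy ?_) hQ
    have := DD_cj q⁻¹ hy
    rwa [show q⁻¹ * y * q⁻¹⁻¹ = z * y by
      rw [inv_inv, mul_assoc, mul_inv_eq_iff_eq_mul.1 e]; group] at this

end Cfsg.Agent.H95.Par
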