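import Cfsg.Agent.H95.KnM3a
import Cfsg.Agent.H64.KnMod3b

/-! The third block of facts on the model. -/

set_option autoImplicit false

namespace Cfsg.Agent.H17.Kn.M3a

open Cfsg.Agent.H64

theorem mod3 (h1 : Mod1) (h2 : Mod2) : Mod3 :=
  ⟨cEE, cFF, cAA, cQQ h2, cAP, cPA, cFV h2, cDP, nPA, qk, homA, cpl, cplF h1, fvU h2, odd, chm h2,
    chs h2, KnG.gma h1, KnG.gm2 h1, KnG.gmx, KnG.gmA h1 h2, KnG.gmc h1, KnG.gmz h1, KnG.gmf h1⟩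

end Cfsg.Agent.H17.Kn.M3a
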