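import Cfsg.Agent.H34.MidAut4
import Cfsg.Agent.H74.MsMd
import Cfsg.Agent.H74.YtTwo
import Cfsg.Agent.H97.MoFin
import Cfsg.Agent.H49.RkG
import Cfsg.Agent.H49.Fix3
import Cfsg.Agent.H49.Fix3A
import Cfsg.Agent.H49.Fix7
import Cfsg.Agent.H30.KiUp
import Cfsg.Prelude.Def_Spor_J3
import Cfsg.Prelude.Def_Spor_ON
import Cfsg.Prelude.Def_Spor_Ru

/-! Three sporadic groups which are not involved in the Monster: data and statements. -/

set_option autoImplicit false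

namespace Cfsg.Agent.H95.Par

open Cfsg Subgroup Cfsg.Agent.H48 Cfsg.Agent.H48.Rec Cfsg.Agent.H49
open Cfsg.Agent.H97.Gr (DD ZZ)
open Cfsg.Agent.H97.Yt (M)
open Cfsg.Agent.H74.Ms (VV mkV nV)
open scoped Pointwise commutatorElement

/-! ### Data in the three groups -/

/-- elements of the third Janko group around a four-group -/
structure JD (G : Type) [Group G] where
  (s r y w m τ x1 x2 a : G)
  (T O : Subgroup G)
  hT : IsPGroup 2 T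
  OT : O ≤ T
  τT : τ ∈ T
  sO : s ∈ O
  rO : r ∈ O
  x1O : x1 ∈ O
  x2O : x2 ∈ O
  ss : s * s = 1
  s1 : s ≠ 1
  rs : r ≠ s
  ys : y * s * y⁻¹ = r
  yr : y * r * y⁻¹ = r * s
  w3 : w ^ 3 = y
  y3 : y ^ 3 = 1
  hm : 6 < orderOf (s * (m * s * m⁻¹))
  τc : τ ∈ closure {g | ∃ c, c * s = s * c ∧ g = c * r * c⁻¹}
  x1c : x1 ∈ closure {g | ∃ c, c * r = r * c ∧ g = c * s * c⁻¹}
  x2c : x2 ∈ closure {g | ∃ c, c * r = r * c ∧ g = c * s * c⁻¹}
  τr : τ * r * τ⁻¹ = r * s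
  c1 : ⁅τ, x1⁆ * ⁅τ, x1⁆ = s
  c2 : ⁅τ, x2⁆ * ⁅τ, x2⁆ = s
  c3 : ⁅τ, x1 * x2⁆ * ⁅τ, x1 * x2⁆ = s
  c4 : ⁅⁅τ, x1⁆, x2⁆ ∈ closure {s, r}
  os : ∀ o ∈ O, o * s = s * o
  or : ∀ o ∈ O, o * r = r * o
  oo : ∀ o ∈ O, o * o ∈ closure {s, r}
  card : Nat.card O = 64
  irr : ∀ o ∈ O, o ∉ closure {s, r} → ∃ n ∈ normalizer (closure {s, r} : Subgroup G),
    n * o * n⁻¹ ∈ O ∧ ⁅o, n * o * n⁻¹⁆ ≠ 1
  as : a * s = s * a
  ar : a * r = r * a
  fpf : ∀ o ∈ O, ∃ o' ∈ O, a * o' * a⁻¹ ∈ O ∧ ⁅a, o'⁆⁻¹ * o ∈ closure {s, r}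

/-- elements of the normalizer of a Sylow 3-subgroup of the third Janko group -/
structure SD (G : Type) [Group G] where
  (z c a w0 w1 g1 g2 : G)
  z3 : z ^ 3 = 1
  c3 : c ^ 3 = 1
  a3 : a ^ 3 = 1
  c1 : c ≠ 1
  zc : z * c = c * z
  za : z * a = a * z
  ca : c * a = a * c
  w0z : w0 * z = z * w0
  w1z : w1 * z = z * w1
  w1c : w1 * c = c * w1
  w03 : w0 ^ 3 = c
  w0a : w0 * a * w0⁻¹ = a * z
  w1a : w1 * a * w1⁻¹ = a * c
  g1z : g1 * z * g1⁻¹ = z * c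
  g1c : g1 * c * g1⁻¹ = z * z * c
  g2z : g2 * z * g2⁻¹ = z * c * c
  g2c : g2 * c * g2⁻¹ = z * c

/-- elements of the O'Nan group or of its triple cover with centre generated by `x` -/
structure OD (G : Type) [Group G] (x : G) where
  (s u y h h' k1 k2 k3 m : G)
  x3 : x ^ 3 = 1
  xu : x * u = u * x
  xy : x * y = y * x
  xh : x * h = h * x
  xh' : x * h' = h' * x
  xk1 : x * k1 = k1 * x
  xk2 : x * k2 = k2 * x
  xk3 : x * k3 = k3 * x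
  uu : u * u = s
  ss : s * s = 1
  s1 : s ≠ 1
  oy : orderOf y = 7
  uy : u * y = y * u
  hs : h * s = s * h
  h's : h' * s = s * h'
  k1s : k1 * s = s * k1
  k2s : k2 * s = s * k2
  k3s : k3 * s = s * k3
  yc : y ∈ ⁅centralizer ({y} : Set G), centralizer ({y} : Set G)⁆
  hy : h * y * h⁻¹ = y ^ 2
  h3 : h ^ 3 ∈ zpowers x
  h'3 : h' ^ 3 ∈ zpowers x
  hh' : ⁅h, h'⁆ ∈ zpowers x
  e1 : k1 * h * k1⁻¹ * h'⁻¹ ∈ zpowers x
  e2 : k2 * h * k2⁻¹ * (h * h')⁻¹ ∈ zpowers x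
  e3 : k3 * h * k3⁻¹ * (h * h * h')⁻¹ ∈ zpowers x
  uc : u ∈ closure {g | g * u = u * g ∧ g * x = x * g ∧ Odd (orderOf g)}
  hm : 6 < orderOf (s * (m * s * m⁻¹))

/-- elements of the Rudvalis group -/
structure RD (G : Type) [Group G] where
  (t t' w m : G)
  tt : t * t = 1
  t1 : t ≠ 1
  tt' : t' * t' = 1
  t'1 : t' ≠ 1
  ne : t' ≠ t
  cm : t' * t = t * t'
  ow : orderOf w = 13
  wt : w * t = t * w
  wt' : w * t' = t' * w
  hm : 6 < orderOf (t * (m * t * m⁻¹))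

/-- JX -/
def JXStmt : Prop := ∀ (F : Type) [Field F] [Fintype F] (ω : F), Fintype.card F = 4 →
  ω ^ 2 + ω + 1 = 0 → ∃ (D : JD (Spor.J3 F ω)) (ι : Spor.J3 F ω), ι * D.y * ι⁻¹ = D.y⁻¹

/-- SX -/
def SXStmt : Prop := ∀ (F : Type) [Field F] [Fintype F] (ω : F), Fintype.card F = 4 →
  ω ^ 2 + ω + 1 = 0 → Nonempty (SD (Spor.J3 F ω))

/-- OX -/
def OXStmt : Prop := Nonempty (OD Spor.ON 1)

/-- RX -/
def RXStmt : Prop := Nonempty (RD Spor.Ru)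

/-- JL: lifting along a central extension of exponent three -/
def JLStmt : Prop := ∀ (X H G : Type) [Group X] [Group H] [Finite H] [Group G] (π : H →* X)
  (f : H →* G), Function.Surjective π → π.ker ≤ center H → (∀ n ∈ π.ker, n ^ 3 = 1) →
  Function.Injective f → ∀ (D : JD X) (ι : X), ι * D.y * ι⁻¹ = D.y⁻¹ → Nonempty (JD G)

/-- OL: lifting along a central extension of order dividing three -/
def OLStmt : Prop := ∀ (X H G : Type) [Group X] [Group H] [Finite H] [Group G] (π : H →* X)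
  (f : H →* G) (x : H), Function.Surjective π → π.ker = zpowers x → x ∈ center H → x ^ 3 = 1 →
  Function.Injective f → OD X 1 → Nonempty (OD G (f x))

/-! ### Reduction to central extensions -/

/-- a minimal subgroup mapping onto `X` -/
structure Min {Γ X : Type} [Group Γ] [Group X] (H : Subgroup Γ) (π : H →* X) : Prop where
  surj : Function.Surjective π
  min : ∀ K : Subgroup H, K.map π = ⊤ → K = ⊤

/-- KIT0 -/
def Kit0Stmt : Prop := ∀ (Γ X : Type) [Group Γ] [Finite Γ] [Group X] (A : Subgroup Γ)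
  (B : Subgroup A) [B.Normal], Nonempty (A ⧸ B ≃* X) → ∃ (H : Subgroup Γ) (π : H →* X), Min H π

/-- KIT1 -/
def Kit1Stmt : Prop := ∀ (Γ X : Type) [Group Γ] [Finite Γ] [Group X] [IsSimpleGroup X]
  (H : Subgroup Γ) (π : H →* X), Min H π → Group.IsNilpotent π.ker ∧
    ∀ P : Subgroup H, P.Normal → ∀ x : H, π x ≠ 1 → (∀ g ∈ P, x * g = g * x) → P ≤ center H

/-- KIT2 -/
def Kit2Stmt : Prop := ∀ (Γ X : Type) [Group Γ] [Finite Γ] [Group X] [IsSimpleGroup X]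
  (H : Subgroup Γ) (π : H →* X), Min H π → commutator X = ⊤ →
  (∀ P : Subgroup H, P.Normal → P ≤ π.ker → IsPGroup 2 P → P ≤ center H) →
  (∀ p : ℕ, p.Prime → p ≠ 2 → p ∣ Nat.card Γ → ∃ r : ℕ, r.Prime ∧ r ≠ p ∧ r ∣ Nat.card X ∧
    ∀ k, 0 < k → p ^ (k + (Nat.card X).factorization p) ∣ Nat.card Γ → ¬ p ^ k ≡ 1 [MOD r]) →
  IsStemExtension π

/-- MOD: small modules in characteristic two -/
def ModStmt : Prop := ∀ (X V : Type) [Group X] [Group V] [Finite V] (D : SD X)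
  (ρ : X →* MulAut V), (∀ v : V, v * v = 1) → Nat.card V < 2 ^ 54 → ρ D.c = 1

/-- REDJ -/
def RedJStmt : Prop := ∀ (F : Type) [Field F] [Fintype F] (ω : F), Fintype.card F = 4 →
  ω ^ 2 + ω + 1 = 0 → ∀ (H : Subgroup Spor.Monster) (π : H →* Spor.J3 F ω), Min H π →
    π.ker ≤ center H ∧ ∀ n ∈ π.ker, n ^ 3 = 1

/-- REDO -/
def RedOStmt : Prop := ∀ (H : Subgroup Spor.Monster) (π : H →* Spor.ON), Min H π →
  ∃ x : H, π.ker = zpowers x ∧ x ∈ center H ∧ x ^ 3 = 1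

/-- REDR -/
def RedRStmt : Prop := ∀ (H : Subgroup Spor.Monster) (π : H →* Spor.Ru), Min H π →
  Function.Injective π

/-! ### Modules -/

/-- the fixed points of an endomorphism -/
def fx {V : Type} [AddCommGroup V] (α : AddMonoid.End V) : AddSubgroup V :=
  AddMonoidHom.eqLocus (α : V →+ V) (AddMonoidHom.id V)

theorem mem_fx {V : Type} [AddCommGroup V] {α : AddMonoid.End V} {v : V} : v ∈ fx α ↔ α v = v :=
  Iff.rfl

/-- DEC3: two commuting operators of order three -/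
def Dec3Stmt : Prop := ∀ (V : Type) [AddCommGroup V] [Finite V] (W : AddSubgroup V)
  (α β : AddMonoid.End V), (∀ v : V, v + v = 0) → (∀ v ∈ W, α v ∈ W) → (∀ v ∈ W, β v ∈ W) →
  (∀ v ∈ W, α (α (α v)) = v) → (∀ v ∈ W, β (β (β v)) = v) → (∀ v ∈ W, α (β v) = β (α v)) →
  Nat.card W * Nat.card ↥(W ⊓ fx α ⊓ fx β) ^ 3 =
    Nat.card ↥(W ⊓ fx α) * Nat.card ↥(W ⊓ fx β) * Nat.card ↥(W ⊓ fx (α * β)) *
      Nat.card ↥(W ⊓ fx (α * α * β))

/-- F73: the Frobenius group of order 21 -/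
def F73Stmt : Prop := ∀ (V : Type) [AddCommGroup V] [Finite V] (W : AddSubgroup V)
  (η κ : AddMonoid.End V), (∀ v : V, v + v = 0) → (∀ v ∈ W, η v ∈ W) → (∀ v ∈ W, κ v ∈ W) →
  (∀ v ∈ W, (η ^ 7) v = v) → (∀ v ∈ W, η v = v → v = 0) → (∀ v ∈ W, κ (κ (κ v)) = v) →
  (∀ v ∈ W, κ (η v) = η (η (κ v))) → Nat.card W = Nat.card ↥(W ⊓ fx κ) ^ 3

/-! ### The Leech lattice -/

/-- no non-zero class modulo two is fixed -/
def Fpf (g : Co0) : Prop := ∀ v : Lam, Fix g v → cong 0 v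

/-- SUB7 -/
def Sub7Stmt : Prop := ∀ W : AddSubgroup VV, 2 ^ 7 ≤ Nat.card W →
  ∃ v : Lam, sqNorm v.1 = 64 ∧ mkV v ∈ W

/-- T3 -/
def T3Stmt : Prop := ∀ (g : Co0) (v : Lam), orderOf g = 3 → sqNorm v.1 = 64 → Fix g v →
  (tr8 g = 48 ∧ Nat.card (nV g).ker = 2 ^ 12) ∨ (IsConj f3x g ∧ Nat.card (nV g).ker = 2 ^ 8)

/-- TRIO -/
def TrioStmt : Prop := ∀ (c d e : Finset GolayPt) (hc : IsWord c) (hd : IsWord d) (he : IsWord e)
  (g : Co0), c.card = 8 → d.card = 8 → e.card = 8 → Disjoint c d → Disjoint c e → Disjoint d e →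
  g ^ 3 = 1 → g * signEl c hc * g⁻¹ = signEl d hd → g * signEl d hd * g⁻¹ = signEl e he →
  IsConj f3x g

/-- SEXT -/
def SextStmt : Prop := ∀ (c d : Finset GolayPt) (hc : IsWord c) (hd : IsWord d), c.card = 8 →
  d.card = 8 → (c ∩ d).card = 4 → ∃ v1 v2 v3 : Lam, ∀ g : Co0, g * signEl c hc * g⁻¹ ∈ Signs →
    g * signEl d hd * g⁻¹ ∈ Signs →
      cong v1 (g⁻¹ • e8 none) ∨ cong v2 (g⁻¹ • e8 none) ∨ cong v3 (g⁻¹ • e8 none)

/-- a minimal vector in the coset of the commutator space -/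
def Cos (v u : Lam) : Prop := sqNorm u.1 = 32 ∧ ∃ w : Lam, cong u (v + (w + zt • w))

/-- CNT -/
def CntStmt : Prop := ∀ v : Lam, Fix zt v → 32 ∣ sqNorm v.1 → (¬ ∃ w, cong v (w + zt • w)) →
  {x : VV | ∃ u, Cos v u ∧ mkV u = x}.ncard = 16 ∧
    ∀ u u', Cos v u → Cos v u' → cong u u' ∨ sqNorm (u + u').1 = 64

/-- L13 -/
def L13Stmt : Prop := ∀ g : Co0, orderOf g = 13 → Fpf g

/-- L7 -/
def L7Stmt : Prop := ∀ g : Co0, orderOf g = 7 → Fpf g ∨ ∃ v : Lam, sqNorm v.1 = 64 ∧ Fix g v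

/-- INV -/
def InvStmt : Prop := ∀ g k : Co0, orderOf g = 7 ∨ orderOf g = 13 → Fpf g → k * k = 1 →
  mk1 k * mk1 g = mk1 g * mk1 k → k ∈ center Co0

/-- DET -/
def DetStmt : Prop := ∀ j ω : Co0, j * j = negEl → ω ^ 3 = 1 → Fpf ω → j * ω = ω * j →
  ∀ k ∈ closure {g : Co0 | g * j = j * g ∧ g * ω = ω * g ∧ Odd (orderOf g)}, mk1 k ≠ mk1 j

/-- M12R -/
def M12RStmt : Prop := ∀ (D : Finset GolayPt) (E : Subgroup M24), IsWord D → D.card = 12 →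
  (∀ e ∈ E, e * e = 1) → (∀ e ∈ E, e • D = D) → Nat.card E ≤ 8

/-! ### The Monster -/

/-- the maps onto the Conway group -/
abbrev Th (z : M) : Type := centralizer ({z} : Set M) →* Spor.Co1

/-- the extraspecial group attached to an involution -/
noncomputable def Qz (z : M) : Subgroup M := ⨆ (Q : Subgroup M) (_ : ∃ θ R, MD Q z θ R), Q

/-- a chart at `z` -/
abbrev Ch (z : M) (θ : Th z) (R : Lam → M → Prop) : Prop := MD (Qz z) z θ R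

/-- NEG: no involution lies over an element with square `-1` -/
def NegStmt : Prop := ∀ (z : M) (θ : Th z) (R : Lam → M → Prop), Ch z θ R → ∀ (g : Co0) (y : M),
  Ass θ g y → y * y = 1 → g * g = 1

/-- OUT -/
def OutStmt : Prop := ∀ (z : M) (θ : Th z) (R : Lam → M → Prop), Ch z θ R → ∀ (g : Co0) (y : M),
  Ass θ g y → y ∈ DD → y ∉ Qz z → IsConj z0 (mk1 g)

/-- EX -/
def ExStmt : Prop := ∀ (z : M) (θ : Th z) (R : Lam → M → Prop), Ch z θ R → ∃ t ∈ DD, Ass θ zt t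

/-- the invariant set attached to a four-group -/
def Theta (s r : M) : Set M := {w | w ∈ ZZ ∧ w * s ∈ DD ∧ w * r ∈ DD ∧ w * (r * s) ∈ DD}

/-- THETA -/
def ThetaStmt : Prop := ∀ (s r : M) (θ : Th s) (R : Lam → M → Prop), Ch s θ R → r ∈ ZZ →
  r * s ∈ ZZ → Ass θ zt r → (Theta s r).ncard = 16 ∧
    ∀ w ∈ Theta s r, ∀ w' ∈ Theta s r, w ≠ w' → w * w' ∈ ZZ

/-- TH -/
def ThStmt : Prop := ∀ (z : M) (θ : Th z) (R : Lam → M → Prop), Ch z θ R → ∀ y : M,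
  Ass θ f3x y → orderOf y = 3 → ∀ w : M, w ^ 3 ≠ y

/-- T7 -/
def T7Stmt : Prop := ∀ (z : M) (θ : Th z) (R : Lam → M → Prop), Ch z θ R → ∀ (g : Co0) (y : M),
  Ass θ g y → orderOf g = 7 → orderOf y = 7 →
  y ∈ ⁅centralizer ({y} : Set M), centralizer ({y} : Set M)⁆ → Fpf g

/-- A: the singular case -/
def AStmt : Prop := ∀ D : JD M, D.s ∈ ZZ → D.r ∉ Qz D.s

/-- B: the octad case -/
def BStmt : Prop := ∀ (D : JD M) (θ : Th D.s) (R : Lam → M → Prop), Ch D.s θ R → ¬ Ass θ zt D.r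

/-- C1: the dodecad case, the invariant involution -/
def C1Stmt : Prop := ∀ (s r : M) (θ : Th s) (R : Lam → M → Prop), Ch s θ R → r ∈ ZZ →
  Ass θ ut r → ∃ x ∈ ZZ, s ∈ Qz x ∧ r ∈ Qz x ∧ (∀ x' ∈ ZZ, s ∈ Qz x' → r ∈ Qz x' → x' = x) ∧
    ∀ (θ' : Th x) (R' : Lam → M → Prop), Ch x θ' R' → R' (e8 none) s →
      ∃ (v : Lam) (c : Rk.WG), R' v r ∧ Rk.Wv c v ∧ c.1.card = 12

/-- C2: the dodecad case -/
def C2Stmt : Prop := ∀ (D : JD M) (θ : Th D.s) (R : Lam → M → Prop), Ch D.s θ R → ¬ Ass θ ut D.r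

/-- O -/
def OStmt : Prop := ∀ x : M, IsEmpty (OD M x)

/-- R -/
def RStmt : Prop := IsEmpty (RD M)

end Cfsg.Agent.H95.Par
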