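import Cfsg.Agent.H73.CVKit
import Cfsg.Agent.H60.C6A1

/-!
# Project CV: a reflection gives a transvection in characteristic 7
-/

set_option autoImplicit false

namespace Cfsg.Agent.H73.CV.H3x

open Matrix Cfsg.Geo H26 Cfsg.Agent.H25
open Cfsg.Agent.H25.C6 (TV gD gP gX gU gY gW mW Gen pm pm_mulVec)
open Cfsg.Agent.H25.C6.H60A1 (hom_conj emb)

universe u

/-- polynomials of degree at most nine -/
structure P where
  a0 : ℕ
  a1 : ℕ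
  a2 : ℕ
  a3 : ℕ
  a4 : ℕ
  a5 : ℕ
  a6 : ℕ
  a7 : ℕ
  a8 : ℕ
  a9 : ℕ
deriving DecidableEq

def c10 (a b : P) : ℕ :=
  a.a1 * b.a9 + a.a2 * b.a8 + a.a3 * b.a7 + a.a4 * b.a6 + a.a5 * b.a5 + a.a6 * b.a4 + a.a7 * b.a3 + a.a8 * b.a2 + a.a9 * b.a1

def pmul (q : ℕ) (a b : P) : P :=
  ⟨(a.a0 * b.a0 +
      (a.a2 * b.a9 + a.a3 * b.a8 + a.a4 * b.a7 + a.a5 * b.a6 + a.a6 * b.a5 + a.a7 * b.a4 + a.a8 * b.a3 + a.a9 * b.a2) + q * c10 a b) % (q + 1),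
   (a.a0 * b.a1 + a.a1 * b.a0 +
      (a.a3 * b.a9 + a.a4 * b.a8 + a.a5 * b.a7 + a.a6 * b.a6 + a.a7 * b.a5 + a.a8 * b.a4 + a.a9 * b.a3) + q * c10 a b) % (q + 1),
   (a.a0 * b.a2 + a.a1 * b.a1 + a.a2 * b.a0 +
      (a.a4 * b.a9 + a.a5 * b.a8 + a.a6 * b.a7 + a.a7 * b.a6 + a.a8 * b.a5 + a.a9 * b.a4) + q * c10 a b) % (q + 1),
   (a.a0 * b.a3 + a.a1 * b.a2 + a.a2 * b.a1 + a.a3 * b.a0 +
      (a.a5 * b.a9 + a.a6 * b.a8 + a.a7 * b.a7 + a.a8 * b.a6 + a.a9 * b.a5) + q * c10 a b) % (q + 1),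
   (a.a0 * b.a4 + a.a1 * b.a3 + a.a2 * b.a2 + a.a3 * b.a1 + a.a4 * b.a0 +
      (a.a6 * b.a9 + a.a7 * b.a8 + a.a8 * b.a7 + a.a9 * b.a6) + q * c10 a b) % (q + 1),
   (a.a0 * b.a5 + a.a1 * b.a4 + a.a2 * b.a3 + a.a3 * b.a2 + a.a4 * b.a1 + a.a5 * b.a0 +
      (a.a7 * b.a9 + a.a8 * b.a8 + a.a9 * b.a7) + q * c10 a b) % (q + 1),
   (a.a0 * b.a6 + a.a1 * b.a5 + a.a2 * b.a4 + a.a3 * b.a3 + a.a4 * b.a2 + a.a5 * b.a1 + a.a6 * b.a0 +
      (a.a8 * b.a9 + a.a9 * b.a8) + q * c10 a b) % (q + 1),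
   (a.a0 * b.a7 + a.a1 * b.a6 + a.a2 * b.a5 + a.a3 * b.a4 + a.a4 * b.a3 + a.a5 * b.a2 + a.a6 * b.a1 + a.a7 * b.a0 +
      (a.a9 * b.a9) + q * c10 a b) % (q + 1),
   (a.a0 * b.a8 + a.a1 * b.a7 + a.a2 * b.a6 + a.a3 * b.a5 + a.a4 * b.a4 + a.a5 * b.a3 + a.a6 * b.a2 + a.a7 * b.a1 + a.a8 * b.a0 + q * c10 a b) % (q + 1),
   (a.a0 * b.a9 + a.a1 * b.a8 + a.a2 * b.a7 + a.a3 * b.a6 + a.a4 * b.a5 + a.a5 * b.a4 + a.a6 * b.a3 + a.a7 * b.a2 + a.a8 * b.a1 + a.a9 * b.a0 + q * c10 a b) % (q + 1)⟩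

def padd (q : ℕ) (a b : P) : P :=
  ⟨(a.a0 + b.a0) % (q + 1),
   (a.a1 + b.a1) % (q + 1),
   (a.a2 + b.a2) % (q + 1),
   (a.a3 + b.a3) % (q + 1),
   (a.a4 + b.a4) % (q + 1),
   (a.a5 + b.a5) % (q + 1),
   (a.a6 + b.a6) % (q + 1),
   (a.a7 + b.a7) % (q + 1),
   (a.a8 + b.a8) % (q + 1),
   (a.a9 + b.a9) % (q + 1)⟩

def pc (n : ℕ) : P := ⟨n, 0, 0, 0, 0, 0, 0, 0, 0, 0⟩

structure V3 where
  x : P
  y : P
  z : P
deriving DecidableEq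

structure M9 where
  r0 : V3
  r1 : V3
  r2 : V3
deriving DecidableEq

def dot (q : ℕ) (u : V3) (a b c : P) : P := padd q (padd q (pmul q u.x a) (pmul q u.y b)) (pmul q u.z c)

def vm (q : ℕ) (u : V3) (B : M9) : V3 :=
  ⟨dot q u B.r0.x B.r1.x B.r2.x, dot q u B.r0.y B.r1.y B.r2.y, dot q u B.r0.z B.r1.z B.r2.z⟩

def mm (q : ℕ) (A B : M9) : M9 := ⟨vm q A.r0 B, vm q A.r1 B, vm q A.r2 B⟩

def ro (q : ℕ) (v f : V3) : M9 :=
  ⟨⟨padd q (pc 1) (pmul q v.x f.x), pmul q v.x f.y, pmul q v.x f.z⟩,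
   ⟨pmul q v.y f.x, padd q (pc 1) (pmul q v.y f.y), pmul q v.y f.z⟩,
   ⟨pmul q v.z f.x, pmul q v.z f.y, padd q (pc 1) (pmul q v.z f.z)⟩⟩

def sg (q : ℕ) (A : M9) : Fin 3 → M9 :=
  ![ro q ⟨pc (2 * q), pc 0, pc 0⟩ A.r0, ro q ⟨pc 0, pc (2 * q), pc 0⟩ A.r1,
    ro q ⟨pc 0, pc 0, pc (2 * q)⟩ A.r2]

def wd (q : ℕ) (A : M9) (i : Fin 3) : List (Fin 3) → M9
  | [] => sg q A i
  | j :: w => mm q (sg q A i) (wd q A j w)

def sq (q : ℕ) (g : M9) : M9 := mm q g g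


def pw (q : ℕ) (g : M9) : List Bool → M9 → M9
  | [], r => r
  | true :: l, r => pw q g l (mm q (sq q r) g)
  | false :: l, r => pw q g l (sq q r)

def o9 : M9 := ⟨⟨pc 1, pc 0, pc 0⟩, ⟨pc 0, pc 1, pc 0⟩, ⟨pc 0, pc 0, pc 1⟩⟩

section Ev

variable {F : Type u} [Field F] (x : F)

def ev (a : P) : F :=
  a.a0 + a.a1 * x + a.a2 * x ^ 2 + a.a3 * x ^ 3 + a.a4 * x ^ 4 + a.a5 * x ^ 5 +
    a.a6 * x ^ 6 + a.a7 * x ^ 7 + a.a8 * x ^ 8 + a.a9 * x ^ 9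

def evV (u : V3) : Fin 3 → F := ![ev x u.x, ev x u.y, ev x u.z]

def evM (A : M9) : Matrix (Fin 3) (Fin 3) F := of ![evV x A.r0, evV x A.r1, evV x A.r2]

theorem ev_pc (n : ℕ) : ev x (pc n) = n := by simp [ev, pc]

theorem evM_o9 : evM x o9 = 1 := by
  ext i j
  fin_cases i <;> fin_cases j <;> simp [evM, evV, o9, ev_pc]

variable {x} {q : ℕ} (hq : (q : F) + 1 = 0)
  (hx : 1 + x + x ^ 2 + x ^ 3 + x ^ 4 + x ^ 5 + x ^ 6 + x ^ 7 + x ^ 8 + x ^ 9 + x ^ 10 = 0)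

include hq

theorem cast_mod (n : ℕ) : ((n % (q + 1) : ℕ) : F) = n := by
  conv_rhs => rw [← Nat.mod_add_div n (q + 1)]
  push_cast
  rw [hq, zero_mul, add_zero]

theorem ev_add (a b : P) : ev x (padd q a b) = ev x a + ev x b := by
  simp only [ev, padd, cast_mod hq]
  push_cast
  ring

include hx

theorem ev_mul (a b : P) : ev x (pmul q a b) = ev x a * ev x b := by
  simp only [ev, pmul, cast_mod hq, c10]
  push_cast
  linear_combination ((a.a1 : F) * b.a9 + (a.a2 : F) * b.a8 + (a.a3 : F) * b.a7 + (a.a4 : F) * b.a6 + (a.a5 : F) * b.a5 + (a.a6 : F) * b.a4 + (a.a7 : F) * b.a3 + (a.a8 : F) * b.a2 + (a.a9 : F) * b.a1) *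
    (1 + x + x ^ 2 + x ^ 3 + x ^ 4 + x ^ 5 + x ^ 6 + x ^ 7 + x ^ 8 + x ^ 9) * hq -
    (((a.a1 : F) * b.a9 + (a.a2 : F) * b.a8 + (a.a3 : F) * b.a7 + (a.a4 : F) * b.a6 + (a.a5 : F) * b.a5 + (a.a6 : F) * b.a4 + (a.a7 : F) * b.a3 + (a.a8 : F) * b.a2 + (a.a9 : F) * b.a1) + (x - 1) * (
      ((a.a2 : F) * b.a9 + (a.a3 : F) * b.a8 + (a.a4 : F) * b.a7 + (a.a5 : F) * b.a6 + (a.a6 : F) * b.a5 + (a.a7 : F) * b.a4 + (a.a8 : F) * b.a3 + (a.a9 : F) * b.a2) * x ^ 0 +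
      ((a.a3 : F) * b.a9 + (a.a4 : F) * b.a8 + (a.a5 : F) * b.a7 + (a.a6 : F) * b.a6 + (a.a7 : F) * b.a5 + (a.a8 : F) * b.a4 + (a.a9 : F) * b.a3) * x ^ 1 +
      ((a.a4 : F) * b.a9 + (a.a5 : F) * b.a8 + (a.a6 : F) * b.a7 + (a.a7 : F) * b.a6 + (a.a8 : F) * b.a5 + (a.a9 : F) * b.a4) * x ^ 2 +
      ((a.a5 : F) * b.a9 + (a.a6 : F) * b.a8 + (a.a7 : F) * b.a7 + (a.a8 : F) * b.a6 + (a.a9 : F) * b.a5) * x ^ 3 +
      ((a.a6 : F) * b.a9 + (a.a7 : F) * b.a8 + (a.a8 : F) * b.a7 + (a.a9 : F) * b.a6) * x ^ 4 +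
      ((a.a7 : F) * b.a9 + (a.a8 : F) * b.a8 + (a.a9 : F) * b.a7) * x ^ 5 +
      ((a.a8 : F) * b.a9 + (a.a9 : F) * b.a8) * x ^ 6 +
      ((a.a9 : F) * b.a9) * x ^ 7)) * hx

theorem evM_mm (A B : M9) : evM x (mm q A B) = evM x A * evM x B := by
  ext i j
  fin_cases i <;> fin_cases j <;>
    simp [evM, evV, mm, vm, dot, ev_add hq, ev_mul hq hx, mul_apply, Fin.sum_univ_three]

theorem evM_ro (v f : V3) : evM x (ro q v f) = 1 + vecMulVec (evV x v) (evV x f) := by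
  ext i j
  fin_cases i <;> fin_cases j <;>
    simp [evM, evV, ro, ev_add hq, ev_mul hq hx, ev_pc]

theorem evM_sg (A : M9) (i : Fin 3) :
    evM x (sg q A i) = 1 + ((-1 : F) - 1) • vecMulVec (Pi.single i 1) (evM x A i) := by
  have e : (2 : F) * q = -1 - 1 := by linear_combination 2 * hq
  rw [← smul_vecMulVec]
  fin_cases i <;> refine (evM_ro hq hx _ _).trans (congrArg₂ (fun a b => 1 + vecMulVec a b) ?_ rfl) <;>
    ext j <;> fin_cases j <;> simp [evV, ev_pc, e]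

theorem core (A : M9) (i : Fin 3) (w : List (Fin 3)) (l : List Bool) (v f : V3) (t : P)
    (h1 : pw q (wd q A i w) l (wd q A i w) = ro q v f) (h2 : v.x = pc 1) (h3 : pmul q f.x t = pc 1)
    (h4 : dot q f v.x v.y v.z = pc 0) (Γ : Subgroup (GL (Fin 3) F))
    (h : ∀ i, HasMat Γ (1 + ((-1 : F) - 1) • vecMulVec (Pi.single i 1) (evM x A i))) :
    ∃ g ∈ Γ, L45.IsTv g := by
  have hm : ∀ B C, HasMat Γ (evM x B) → HasMat Γ (evM x C) → HasMat Γ (evM x (mm q B C)) := by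
    rintro B C ⟨b, hb, e⟩ ⟨c, hc, e'⟩
    exact ⟨b * c, mul_mem hb hc, by rw [evM_mm hq hx, Units.val_mul, e, e']⟩
  have hw : ∀ w i, HasMat Γ (evM x (wd q A i w)) := by
    intro w
    induction w with
    | nil => intro i; rw [wd, evM_sg hq hx]; exact h i
    | cons j w ih => intro i; exact hm _ _ (by rw [evM_sg hq hx]; exact h i) (ih j)
  have h5 := hw w i
  have hp : ∀ l r, HasMat Γ (evM x r) → HasMat Γ (evM x (pw q (wd q A i w) l r)) := by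
    intro l
    induction l with
    | nil => exact fun r h => h
    | cons b l ih =>
      intro r h
      cases b
      · exact ih _ (hm _ _ h h)
      · exact ih _ (hm _ _ (hm _ _ h h) h5)
  obtain ⟨g, hg, e⟩ := hp l _ h5
  rw [h1, evM_ro hq hx] at e
  refine ⟨g, hg, _, _, fun e => ?_, fun e => ?_, ?_, e⟩
  · simpa [evV, h2, ev_pc] using congrFun e 0
  · have h8 := congrArg (ev x) h3
    rw [ev_mul hq hx, show ev x f.x = 0 from congrFun e 0, ev_pc] at h8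
    simp at h8
  · have h8 := congrArg (ev x) h4
    simpa [dot, ev_add hq, ev_mul hq hx, ev_pc, evV, dotProduct, Fin.sum_univ_three] using h8

theorem det_ne (A B : M9) (h : mm q A B = o9) : (evM x A).det ≠ 0 :=
  det_ne_zero_of_right_inverse (B := evM x B) (by rw [← evM_mm hq hx, h, evM_o9])

end Ev


def A7 : M9 :=
  ⟨⟨⟨1, 0, 0, 0, 0, 0, 0, 0, 0, 0⟩,
      ⟨1, 0, 0, 0, 0, 0, 0, 0, 0, 0⟩,
      ⟨0, 0, 1, 0, 0, 0, 0, 0, 0, 0⟩⟩,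
    ⟨⟨2, 0, 0, 0, 0, 0, 0, 0, 0, 0⟩,
      ⟨1, 0, 0, 0, 0, 0, 0, 0, 0, 0⟩,
      ⟨0, 4, 4, 0, 0, 0, 4, 0, 2, 4⟩⟩,
    ⟨⟨0, 0, 0, 0, 0, 0, 0, 0, 0, 2⟩,
      ⟨3, 3, 0, 5, 3, 0, 3, 3, 3, 0⟩,
      ⟨1, 0, 0, 0, 0, 0, 0, 0, 0, 0⟩⟩⟩

def B7 : M9 :=
  ⟨⟨⟨1, 0, 6, 3, 4, 6, 6, 4, 3, 6⟩,
      ⟨2, 4, 6, 6, 1, 0, 1, 1, 0, 2⟩,
      ⟨0, 5, 3, 1, 3, 1, 2, 2, 1, 2⟩⟩,
    ⟨⟨3, 6, 3, 6, 1, 1, 6, 1, 4, 4⟩,
      ⟨3, 0, 6, 4, 5, 1, 1, 5, 4, 6⟩,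
      ⟨5, 6, 5, 3, 2, 6, 4, 1, 2, 4⟩⟩,
    ⟨⟨4, 4, 1, 6, 1, 1, 6, 3, 6, 3⟩,
      ⟨6, 1, 5, 3, 2, 5, 0, 3, 4, 6⟩,
      ⟨3, 0, 6, 4, 5, 1, 1, 5, 4, 6⟩⟩⟩

def v7 : V3 :=
  ⟨⟨1, 0, 0, 0, 0, 0, 0, 0, 0, 0⟩,
      ⟨2, 2, 4, 2, 0, 6, 6, 2, 6, 0⟩,
      ⟨5, 5, 3, 5, 6, 0, 5, 4, 2, 2⟩⟩

def f7 : V3 :=
  ⟨⟨1, 5, 4, 2, 0, 1, 2, 0, 1, 4⟩,
      ⟨6, 0, 2, 0, 6, 2, 0, 4, 5, 5⟩,
      ⟨0, 3, 0, 5, 6, 6, 4, 0, 2, 3⟩⟩

def i7 : P := ⟨4, 1, 4, 6, 1, 0, 2, 1, 3, 2⟩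

def w7 : List (Fin 3) := [2, 1, 2, 1, 0, 2, 1, 0, 2, 0, 1, 0, 2, 1, 2, 0, 1, 0, 2, 0, 1, 2, 1, 2, 0, 1, 2, 1, 2]

def l7 : List Bool := [false, false, false, false, false, true, true, false, true, false, true]

theorem c7 : pw 6 (wd 6 A7 1 w7) l7 (wd 6 A7 1 w7) = ro 6 v7 f7 := by decide +kernel

/-- the sign change at `0` -/
def sn (F : Type u) [Field F] (i : ZMod 11) : F := if i = 0 then -1 else 1

theorem red {F : Type u} [Field F] [Fact (Nat.Prime 11)] {ω : Fˣ} {G : Subgroup (GL (ZMod 11) F)}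
    (r0 : ((11 : ℕ) : F) ≠ 0) (ho : orderOf ω = 11) (M : Gen ω G)
    (hc : gD (Function.update 1 0 (-1)) ∈ G) (a : ℕ) {A : Matrix (Fin 3) (Fin 3) F}
    (hA : A.det ≠ 0)
    (eA : A = !![1, 1, (ω : F) ^ (1 * 1 + a * 1 : ZMod 11).val;
      ((11 : ℕ) : F)⁻¹, 1, ((11 : ℕ) : F)⁻¹ * ∑ i : ZMod 11, sn F i * (ω : F) ^ (i * i + a * i).val;
      ((11 : ℕ) : F)⁻¹ * (ω : F) ^ (-(1 * 1 + a * 1) : ZMod 11).val,
        ((11 : ℕ) : F)⁻¹ * ∑ i : ZMod 11, sn F i * (ω : F) ^ (-(i * i + a * i)).val, 1])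
    (h3 : ∀ Γ : Subgroup (GL (Fin 3) F),
      (∀ i, HasMat Γ (1 + ((-1 : F) - 1) • vecMulVec (Pi.single i 1) (A i))) → ∃ g ∈ Γ, L45.IsTv g) :
    ∃ g ∈ G, TV g := by
  have eH : (gD (Function.update 1 0 (-1)) : GL (ZMod 11) F).1 = diagonal (sn F) := by
    refine congrArg diagonal (funext fun i => ?_)
    by_cases hi : i = 0 <;> simp [sn, hi]
  have h0 : HasMat G (1 + ((-1 : F) - 1) • vecMulVec (Pi.single 0 1) (Pi.single 0 1)) := by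
    refine ⟨_, hc, ?_⟩
    rw [eH]
    ext i j
    by_cases hi : i = 0 <;> by_cases hj : j = 0 <;>
      simp [diagonal_apply, vecMulVec_apply, one_apply, sn, hi, hj, eq_comm (a := (0 : ZMod 11))]
  have pω : IsPrimitiveRoot (ω : F) 11 :=
    IsPrimitiveRoot.coe_units_iff.2 (ho ▸ IsPrimitiveRoot.orderOf ω)
  let ψ := AddChar.zmodChar 11 pω.pow_eq_one
  have hψ : ∀ b, ∑ i, ψ (i * b) = if b = 0 then ((11 : ℕ) : F) else 0 := fun b => by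
    rw [AddChar.sum_mulShift b (AddChar.zmodChar_primitive_of_primitive_root 11 pω), ZMod.card]
    split_ifs <;> simp
  have eW : (gW 11 ω).1 = of fun i j => ψ (i * j) := by
    have e : mW 11 ω = of fun i j => ψ (i * j) := Matrix.ext fun i j => Units.val_pow_eq_pow_val _ _
    have : IsUnit (mW 11 ω) :=
      IsUnit.of_mul_eq_one (of fun i j => ((11 : ℕ) : F)⁻¹ * ψ (-(i * j))) (by
      ext i j
      have := hψ (i - j)
      simp only [e, mul_apply, of_apply, mul_left_comm _ ((11 : ℕ) : F)⁻¹, ← AddChar.map_add_eq_mul,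
        ← Finset.mul_sum, one_apply]
      rw [Finset.sum_congr rfl fun x _ => congrArg ψ (show i * x + -(x * j) = x * (i - j) by ring),
        hψ]
      simp only [sub_eq_zero]
      split_ifs
      · exact inv_mul_cancel₀ r0
      · exact mul_zero _)
    rw [gW, dif_pos this, IsUnit.unit_spec, e]
  have eU : (gU 11 ω).1 = diagonal fun i => ψ (i * i) :=
    congrArg diagonal (funext fun i => Units.val_pow_eq_pow_val _ _)
  have eX : (gX 11 ω ^ a).1 = diagonal fun i => ψ (a * i) := by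
    rw [gX, ← map_pow]
    refine congrArg diagonal (funext fun i => ?_)
    rw [← nsmul_eq_mul, AddChar.map_nsmul_eq_pow, Pi.pow_apply, Units.val_pow_eq_pow_val,
      Units.val_pow_eq_pow_val]
    rfl
  have eK : (gD (Function.update 1 0 (-1)) * (gU 11 ω * gX 11 ω ^ a)).1 =
      diagonal fun i => sn F i * ψ (i * i + a * i) := by
    rw [Units.val_mul, Units.val_mul, eH, eU, eX, diagonal_mul_diagonal, diagonal_mul_diagonal]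
    simp only [AddChar.map_add_eq_mul]
  have hs : ∀ i k, sn F i * ψ (-k) * (sn F i * ψ k) = 1 := fun i k => by
    rw [mul_mul_mul_comm, ← AddChar.map_add_eq_mul, neg_add_cancel, AddChar.map_zero_eq_one]
    by_cases hi : i = 0 <;> simp [sn, hi]
  have s1 : sn F 1 = 1 := if_neg one_ne_zero
  have h1 := hom_conj (v' := fun _ => 1) (φ' := fun _ => ((11 : ℕ) : F)⁻¹) h0 M.w
    (by ext i; simp [eW]) (by
      ext j
      simp only [eW, vecMul, dotProduct, of_apply, ← Finset.mul_sum, hψ, Pi.single_apply]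
      split_ifs
      · exact inv_mul_cancel₀ r0
      · exact mul_zero _)
  have h2 := hom_conj (v' := fun i => sn F i * ψ (i * i + a * i))
    (φ' := fun i => ((11 : ℕ) : F)⁻¹ * (sn F i * ψ (-(i * i + a * i)))) h1
    (mul_mem hc (mul_mem M.u (pow_mem M.x a)))
    (by ext i; rw [eK, mulVec_diagonal, mul_one]) (by
      ext i; rw [eK, vecMul_diagonal, mul_assoc, hs, mul_one])
  have h4 := hom_conj (v' := Pi.single 1 1) (φ' := Pi.single 1 1) h0 M.y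
    (by
      ext i
      change (pm F _ *ᵥ _) i = _
      rw [pm_mulVec]
      simp [Pi.single_apply, add_neg_eq_zero])
    (by
      ext j
      rw [single_one_vecMul]
      change (if (1 : ZMod 11) = j + 1 then (1 : F) else 0) = _
      simp [Pi.single_apply])
  have hc7 : ∑ _i : ZMod 11, ((11 : ℕ) : F)⁻¹ = 1 := by
    rw [Finset.sum_const, Finset.card_univ, ZMod.card, nsmul_eq_mul, mul_inv_cancel₀ r0]
  refine emb (G := G) (neg_ne_zero.2 one_ne_zero) hA (fun i => by rw [eA]; fin_cases i <;> rfl)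
    (v := ![Pi.single 1 1, fun _ => 1, fun i => sn F i * ψ (i * i + a * i)])
    (φ := ![Pi.single 1 1, fun _ => ((11 : ℕ) : F)⁻¹,
      fun i => ((11 : ℕ) : F)⁻¹ * (sn F i * ψ (-(i * i + a * i)))])
    (fun i j => ?_) (fun i => by fin_cases i; exacts [h4, h1, h2]) h3
  rw [eA]
  fin_cases i <;> fin_cases j
  · exact (single_dotProduct _ _ _).trans (by simp)
  · exact (single_dotProduct _ _ _).trans (one_mul _)
  · exact (single_dotProduct _ _ _).trans (by rw [one_mul]; exact (congrArg (· * _) s1).trans (one_mul _))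
  · exact (dotProduct_single _ _ _).trans (mul_one _)
  · exact (Finset.sum_congr rfl fun _ _ => mul_one _).trans hc7
  · exact (Finset.mul_sum _ _ _).symm
  · exact (dotProduct_single _ _ _).trans (by
      rw [mul_one]; exact congrArg (_ * ·) ((congrArg (· * _) s1).trans (one_mul _)))
  · exact (Finset.sum_congr rfl fun _ _ => mul_one _).trans (Finset.mul_sum _ _ _).symm
  · exact (Finset.sum_congr rfl fun i _ => (mul_assoc _ _ _).trans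
      ((congrArg (_ * ·) (hs i _)).trans (mul_one _))).trans hc7


theorem sum11 {F : Type u} [Field F] (x : F) (e : List ℕ) :
    ∑ i : ZMod 11, sn F i * x ^ e.getD i.val 0 =
      -x ^ e.getD 0 0 + x ^ e.getD 1 0 + x ^ e.getD 2 0 + x ^ e.getD 3 0 + x ^ e.getD 4 0 +
        x ^ e.getD 5 0 + x ^ e.getD 6 0 + x ^ e.getD 7 0 + x ^ e.getD 8 0 + x ^ e.getD 9 0 + x ^ e.getD 10 0 := by
  have : ∑ i : ZMod 11, sn F i * x ^ e.getD i.val 0 = -1 * x ^ e.getD 0 0 + (1 * x ^ e.getD 1 0 + (1 * x ^ e.getD 2 0 + (1 * x ^ e.getD 3 0 + (1 * x ^ e.getD 4 0 + (1 * x ^ e.getD 5 0 + (1 * x ^ e.getD 6 0 + (1 * x ^ e.getD 7 0 + (1 * x ^ e.getD 8 0 + (1 * x ^ e.getD 9 0 + (1 * x ^ e.getD 10 0 + 0)))))))))) := by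
    change ∑ i : Fin 11, _ = _
    simp only [Fin.sum_univ_succ, Fin.sum_univ_zero]
    rfl
  rw [this]
  ring

theorem val1 : ∀ i : ZMod 11,
    (i * i + (1 : ℕ) * i).val = [0, 2, 6, 1, 9, 8, 9, 1, 6, 2, 0].getD i.val 0 ∧
    (-(i * i + (1 : ℕ) * i)).val = [0, 9, 5, 10, 2, 3, 2, 10, 5, 9, 0].getD i.val 0 := by decide

theorem h3x : CV.H3xStmt.{u} := by
  intro F _ _ ω G hp ho M hc
  have pω : IsPrimitiveRoot (ω : F) 11 :=
    IsPrimitiveRoot.coe_units_iff.2 (ho ▸ IsPrimitiveRoot.orderOf ω)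
  have hx : 1 + (ω : F) + (ω : F) ^ 2 + (ω : F) ^ 3 + (ω : F) ^ 4 + (ω : F) ^ 5 + (ω : F) ^ 6 + (ω : F) ^ 7 + (ω : F) ^ 8 + (ω : F) ^ 9 + (ω : F) ^ 10 = 0 := by
    have h0 := pω.geom_sum_eq_zero (by norm_num)
    simp only [Finset.sum_range_succ, Finset.sum_range_zero] at h0
    linear_combination h0
  have hq : ((6 : ℕ) : F) + 1 = 0 := by push_cast; linear_combination hp
  have e7 : ((11 : ℕ) : F) * 2 = 1 := by push_cast; linear_combination 3 * hp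
  refine red (left_ne_zero_of_mul_eq_one e7) ho M hc 1 (det_ne hq hx A7 B7 (by decide +kernel)) ?_
    (core hq hx A7 _ _ _ _ _ i7 c7 rfl (by decide +kernel) (by decide +kernel))
  simp only [fun i => (val1 i).1, fun i => (val1 i).2]
  rw [← eq_inv_of_mul_eq_one_right e7, sum11, sum11]
  change _ = !![1, 1, (ω : F) ^ 2; 2, 1, 2 * (-(ω : F) ^ 0 + (ω : F) ^ 2 + (ω : F) ^ 6 + (ω : F) ^ 1 + (ω : F) ^ 9 + (ω : F) ^ 8 + (ω : F) ^ 9 + (ω : F) ^ 1 + (ω : F) ^ 6 + (ω : F) ^ 2 + (ω : F) ^ 0); 2 * (ω : F) ^ 9,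
    2 * (-(ω : F) ^ 0 + (ω : F) ^ 9 + (ω : F) ^ 5 + (ω : F) ^ 10 + (ω : F) ^ 2 + (ω : F) ^ 3 + (ω : F) ^ 2 + (ω : F) ^ 10 + (ω : F) ^ 5 + (ω : F) ^ 9 + (ω : F) ^ 0), 1]
  generalize (ω : F) = x at hx
  ext i j
  fin_cases i <;> fin_cases j <;> simp [evM, evV, ev, A7]
  · ring
  · linear_combination ((1) * x ^ 0 + (1) * x ^ 1 + (1) * x ^ 3 + (1) * x ^ 4 + (1) * x ^ 6 + (1) * x ^ 7 + (1) * x ^ 8) * hp + (-4) * hx

end Cfsg.Agent.H73.CV.H3x
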