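import Cfsg.Prelude.Def_FusionSystem

/-!
Base API for fusion systems.  Maps of a fusion system are handled as plain functions
`f : Ω → Ω` through the predicate `Mor F P f`.
-/

set_option autoImplicit false

namespace Cfsg.Agent.H95

open Cfsg Cfsg.FusionSystem

variable {Ω : Type*} [Group Ω] {S : Subgroup Ω}

/-! ### Functions that are multiplicative on a subgroup -/

/-- `f` is multiplicative on `P`. -/
def HomOn {Ω' : Type*} [Group Ω'] (P : Subgroup Ω) (f : Ω → Ω') : Prop :=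
  ∀ x ∈ P, ∀ y ∈ P, f (x * y) = f x * f y

/-- The homomorphism given by a function multiplicative on `P`. -/
def HomOn.toHom {Ω' : Type*} [Group Ω'] {P : Subgroup Ω} {f : Ω → Ω'} (h : HomOn P f) : P →* Ω' :=
  MonoidHom.mk' (fun x => f x) (fun a b => h a a.2 b b.2)

theorem HomOn.toHom_apply {Ω' : Type*} [Group Ω'] {P : Subgroup Ω} {f : Ω → Ω'} (h : HomOn P f)
    (x : P) : h.toHom x = f x := rfl

theorem HomOn.mono {Ω' : Type*} [Group Ω'] {P Q : Subgroup Ω} {f : Ω → Ω'} (h : HomOn P f)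
    (hQ : Q ≤ P) : HomOn Q f := fun x hx y hy => h x (hQ hx) y (hQ hy)

theorem HomOn.map_one {Ω' : Type*} [Group Ω'] {P : Subgroup Ω} {f : Ω → Ω'} (h : HomOn P f) :
    f 1 = 1 := h.toHom.map_one

theorem HomOn.map_inv {Ω' : Type*} [Group Ω'] {P : Subgroup Ω} {f : Ω → Ω'} (h : HomOn P f)
    {x : Ω} (hx : x ∈ P) : f x⁻¹ = (f x)⁻¹ := h.toHom.map_inv ⟨x, hx⟩

theorem HomOn.map_pow {Ω' : Type*} [Group Ω'] {P : Subgroup Ω} {f : Ω → Ω'} (h : HomOn P f)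
    {x : Ω} (hx : x ∈ P) (n : ℕ) : f (x ^ n) = f x ^ n := h.toHom.map_pow ⟨x, hx⟩ n

theorem HomOn.map_zpow {Ω' : Type*} [Group Ω'] {P : Subgroup Ω} {f : Ω → Ω'} (h : HomOn P f)
    {x : Ω} (hx : x ∈ P) (n : ℤ) : f (x ^ n) = f x ^ n := h.toHom.map_zpow ⟨x, hx⟩ n

theorem HomOn.map_conj {Ω' : Type*} [Group Ω'] {P : Subgroup Ω} {f : Ω → Ω'} (h : HomOn P f)
    {g x : Ω} (hg : g ∈ P) (hx : x ∈ P) : f (g * x * g⁻¹) = f g * f x * (f g)⁻¹ := by
  rw [h _ (P.mul_mem hg hx) _ (P.inv_mem hg), h _ hg _ hx, h.map_inv hg]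

/-- The image of `P` under the function `f` (as a subgroup; meaningful when `f` is multiplicative
on `P`). -/
def img {Ω' : Type*} [Group Ω'] (P : Subgroup Ω) (f : Ω → Ω') : Subgroup Ω' :=
  Subgroup.closure (f '' (P : Set Ω))

theorem mem_img_of_mem {Ω' : Type*} [Group Ω'] {P : Subgroup Ω} (f : Ω → Ω') {x : Ω} (hx : x ∈ P) :
    f x ∈ img P f := Subgroup.subset_closure ⟨x, hx, rfl⟩

theorem img_le_iff {Ω' : Type*} [Group Ω'] {P : Subgroup Ω} {f : Ω → Ω'} {Q : Subgroup Ω'} :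
    img P f ≤ Q ↔ ∀ x ∈ P, f x ∈ Q := by
  unfold img
  rw [Subgroup.closure_le]
  constructor
  · intro h x hx; exact h ⟨x, hx, rfl⟩
  · rintro h _ ⟨x, hx, rfl⟩; exact h x hx

theorem img_mono {Ω' : Type*} [Group Ω'] {P Q : Subgroup Ω} (f : Ω → Ω') (h : P ≤ Q) :
    img P f ≤ img Q f := img_le_iff.2 fun _ hx => mem_img_of_mem f (h hx)

theorem img_congr {Ω' : Type*} [Group Ω'] {P : Subgroup Ω} {f g : Ω → Ω'}
    (h : ∀ x ∈ P, f x = g x) : img P f = img P g := by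
  unfold img
  rw [Set.image_congr h]

theorem HomOn.img_eq_range {Ω' : Type*} [Group Ω'] {P : Subgroup Ω} {f : Ω → Ω'} (h : HomOn P f) :
    img P f = h.toHom.range := by
  apply le_antisymm
  · exact img_le_iff.2 fun x hx => ⟨⟨x, hx⟩, rfl⟩
  · rintro _ ⟨x, rfl⟩; exact mem_img_of_mem f x.2

theorem HomOn.mem_img {Ω' : Type*} [Group Ω'] {P : Subgroup Ω} {f : Ω → Ω'} (h : HomOn P f)
    {y : Ω'} : y ∈ img P f ↔ ∃ x ∈ P, f x = y := by
  rw [h.img_eq_range]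
  constructor
  · rintro ⟨x, rfl⟩; exact ⟨x, x.2, rfl⟩
  · rintro ⟨x, hx, rfl⟩; exact ⟨⟨x, hx⟩, rfl⟩

theorem range_eq_img {Ω' : Type*} [Group Ω'] {P : Subgroup Ω} (φ : P →* Ω') {f : Ω → Ω'}
    (h : ∀ x : P, φ x = f x) : φ.range = img P f := by
  apply le_antisymm
  · rintro _ ⟨x, rfl⟩; rw [h]; exact mem_img_of_mem f x.2
  · exact img_le_iff.2 fun x hx => ⟨⟨x, hx⟩, h ⟨x, hx⟩⟩

theorem map_subgroupOf_eq_img {Ω' : Type*} [Group Ω'] {P Q : Subgroup Ω} (hQP : Q ≤ P)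
    (φ : P →* Ω') {f : Ω → Ω'} (h : ∀ x : P, φ x = f x) : (Q.subgroupOf P).map φ = img Q f := by
  apply le_antisymm
  · rintro _ ⟨x, hx, rfl⟩; rw [h]; exact mem_img_of_mem f hx
  · exact img_le_iff.2 fun x hx => ⟨⟨x, hQP hx⟩, hx, h ⟨x, hQP hx⟩⟩

theorem img_id (P : Subgroup Ω) : img P (fun x => x) = P := by
  unfold img; simp

theorem img_eq_self_of_eqOn {P : Subgroup Ω} {f : Ω → Ω} (h : ∀ x ∈ P, f x = x) : img P f = P := by
  rw [img_congr h, img_id]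

theorem img_hom {Ω' : Type*} [Group Ω'] (P : Subgroup Ω) (f : Ω →* Ω') : img P f = P.map f := by
  unfold img
  rw [← Subgroup.coe_map, Subgroup.closure_eq]

theorem img_conj (P : Subgroup Ω) (g : Ω) :
    img P (fun x => g * x * g⁻¹) = P.map (MulAut.conj g).toMonoidHom := by
  rw [← img_hom]; exact img_congr fun _ _ => rfl

theorem HomOn.img_img {Ω' Ω'' : Type*} [Group Ω'] [Group Ω''] {P : Subgroup Ω} {f : Ω → Ω'}
    (h : HomOn P f) (g : Ω' → Ω'') : img (img P f) g = img P (fun x => g (f x)) := by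
  apply le_antisymm
  · refine img_le_iff.2 fun y hy => ?_
    obtain ⟨x, hx, rfl⟩ := h.mem_img.1 hy
    exact mem_img_of_mem (fun x => g (f x)) hx
  · exact img_le_iff.2 fun x hx => mem_img_of_mem g (mem_img_of_mem f hx)

theorem HomOn.img_sup {Ω' : Type*} [Group Ω'] {P Q : Subgroup Ω} {f : Ω → Ω'}
    (h : HomOn (P ⊔ Q) f) : img (P ⊔ Q) f = img P f ⊔ img Q f := by
  apply le_antisymm
  · refine img_le_iff.2 fun x hx => ?_
    have : P ⊔ Q ≤ ((img P f ⊔ img Q f).comap h.toHom).map (P ⊔ Q).subtype := by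
      apply sup_le
      · intro y hy
        exact ⟨⟨y, Subgroup.mem_sup_left hy⟩, Subgroup.mem_sup_left (mem_img_of_mem f hy), rfl⟩
      · intro y hy
        exact ⟨⟨y, Subgroup.mem_sup_right hy⟩, Subgroup.mem_sup_right (mem_img_of_mem f hy), rfl⟩
    obtain ⟨y, hy, rfl⟩ := this hx
    exact hy
  · exact sup_le (img_mono f le_sup_left) (img_mono f le_sup_right)

/-- Two functions multiplicative on `P ⊔ Q` agreeing on `P` and on `Q` agree on `P ⊔ Q`. -/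
theorem HomOn.eqOn_sup {Ω' : Type*} [Group Ω'] {P Q : Subgroup Ω} {f g : Ω → Ω'}
    (hf : HomOn (P ⊔ Q) f) (hg : HomOn (P ⊔ Q) g) (hP : ∀ x ∈ P, f x = g x)
    (hQ : ∀ x ∈ Q, f x = g x) : ∀ x ∈ P ⊔ Q, f x = g x := by
  intro x hx
  have : P ⊔ Q ≤ (MonoidHom.eqLocus hf.toHom hg.toHom).map (P ⊔ Q).subtype := by
    apply sup_le
    · intro y hy
      exact ⟨⟨y, Subgroup.mem_sup_left hy⟩, hP y hy, rfl⟩
    · intro y hy
      exact ⟨⟨y, Subgroup.mem_sup_right hy⟩, hQ y hy, rfl⟩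
  obtain ⟨y, hy, rfl⟩ := this hx
  exact hy

theorem HomOn.mem_normalizer_img {Ω' : Type*} [Group Ω'] {R P : Subgroup Ω} {f : Ω → Ω'}
    (h : HomOn R f) (hPR : P ≤ R) {g : Ω} (hg : g ∈ R) (hgN : g ∈ Subgroup.normalizer (P : Set Ω)) :
    f g ∈ Subgroup.normalizer (img P f : Set Ω') := by
  have hP := h.mono hPR
  rw [Subgroup.mem_normalizer_iff]
  intro y
  constructor
  · intro hy
    obtain ⟨x, hx, rfl⟩ := hP.mem_img.1 hy
    rw [← h.map_conj hg (hPR hx)]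
    exact mem_img_of_mem f ((Subgroup.mem_normalizer_iff.1 hgN x).1 hx)
  · intro hy
    obtain ⟨x, hx, hxy⟩ := hP.mem_img.1 hy
    have h1 : g⁻¹ * x * g⁻¹⁻¹ ∈ P :=
      (Subgroup.mem_normalizer_iff.1 ((Subgroup.normalizer (P : Set Ω)).inv_mem hgN) x).1 hx
    have h2 := mem_img_of_mem f h1
    rw [h.map_conj (R.inv_mem hg) (hPR hx), hxy, h.map_inv hg] at h2
    simpa [mul_assoc] using h2

theorem HomOn.mem_centralizer_img {Ω' : Type*} [Group Ω'] {R P : Subgroup Ω} {f : Ω → Ω'}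
    (h : HomOn R f) (hPR : P ≤ R) {g : Ω} (hg : g ∈ R)
    (hgC : g ∈ Subgroup.centralizer (P : Set Ω)) :
    f g ∈ Subgroup.centralizer (img P f : Set Ω') := by
  intro y hy
  obtain ⟨x, hx, rfl⟩ := (h.mono hPR).mem_img.1 hy
  rw [← h _ (hPR hx) _ hg, ← h _ hg _ (hPR hx), hgC x hx]

open Classical in
/-- A homomorphism on `P` read as a function on `Ω` (the identity off `P`). -/
noncomputable def fn {P : Subgroup Ω} (φ : P →* Ω) : Ω → Ω :=
  fun x => if h : x ∈ P then φ ⟨x, h⟩ else x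

theorem fn_apply {P : Subgroup Ω} (φ : P →* Ω) {x : Ω} (hx : x ∈ P) : fn φ x = φ ⟨x, hx⟩ := by
  simp [fn, hx]

theorem fn_coe {P : Subgroup Ω} (φ : P →* Ω) (x : P) : fn φ x = φ x := fn_apply φ x.2

theorem homOn_fn {P : Subgroup Ω} (φ : P →* Ω) : HomOn P (fn φ) := by
  intro x hx y hy
  rw [fn_apply φ hx, fn_apply φ hy, fn_apply φ (P.mul_mem hx hy), ← map_mul]
  rfl

/-! ### Maps of a fusion system as functions -/

/-- The function `f` agrees on `P` with a map of `F` with source `P`. -/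
def Mor (F : FusionSystem S) (P : Subgroup Ω) (f : Ω → Ω) : Prop :=
  ∃ φ ∈ F.Hom P, ∀ x : P, φ x = f x

variable {F : FusionSystem S} {P Q R : Subgroup Ω} {f g : Ω → Ω}

theorem mor_of_hom {φ : P →* Ω} (h : φ ∈ F.Hom P) (hf : ∀ x : P, φ x = f x) : Mor F P f :=
  ⟨φ, h, hf⟩

theorem mor_fn {φ : P →* Ω} (h : φ ∈ F.Hom P) : Mor F P (fn φ) :=
  ⟨φ, h, fun x => (fn_coe φ x).symm⟩

theorem Mor.hom_mem (h : Mor F P f) {φ : P →* Ω} (hφ : ∀ x : P, φ x = f x) : φ ∈ F.Hom P := by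
  obtain ⟨ψ, hψ, h⟩ := h
  have : φ = ψ := MonoidHom.ext fun x => by rw [hφ, h]
  exact this ▸ hψ

theorem hom_iff_mor {φ : P →* Ω} : φ ∈ F.Hom P ↔ Mor F P (fn φ) :=
  ⟨mor_fn, fun h => h.hom_mem fun x => (fn_coe φ x).symm⟩

theorem Mor.le (h : Mor F P f) : P ≤ S := by
  obtain ⟨φ, hφ, -⟩ := h; exact (F.le_of_mem hφ).1

theorem Mor.mem (h : Mor F P f) {x : Ω} (hx : x ∈ P) : f x ∈ S := by
  obtain ⟨φ, hφ, h⟩ := h
  have := (F.le_of_mem hφ).2 ⟨x, hx⟩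
  rwa [h] at this

theorem Mor.homOn (h : Mor F P f) : HomOn P f := by
  obtain ⟨φ, -, h⟩ := h
  intro x hx y hy
  have h1 := h ⟨x, hx⟩
  have h2 := h ⟨y, hy⟩
  have h3 := h (⟨x, hx⟩ * ⟨y, hy⟩)
  rw [map_mul, h1, h2] at h3
  exact h3.symm

theorem Mor.toHom_mem (h : Mor F P f) : h.homOn.toHom ∈ F.Hom P := h.hom_mem fun _ => rfl

theorem Mor.map_mul (h : Mor F P f) {x y : Ω} (hx : x ∈ P) (hy : y ∈ P) :
    f (x * y) = f x * f y := h.homOn x hx y hy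

theorem Mor.map_one (h : Mor F P f) : f 1 = 1 := h.homOn.map_one

theorem Mor.map_inv (h : Mor F P f) {x : Ω} (hx : x ∈ P) : f x⁻¹ = (f x)⁻¹ := h.homOn.map_inv hx

theorem Mor.map_pow (h : Mor F P f) {x : Ω} (hx : x ∈ P) (n : ℕ) : f (x ^ n) = f x ^ n :=
  h.homOn.map_pow hx n

theorem Mor.map_zpow (h : Mor F P f) {x : Ω} (hx : x ∈ P) (n : ℤ) : f (x ^ n) = f x ^ n :=
  h.homOn.map_zpow hx n

theorem Mor.map_conj (h : Mor F P f) {a x : Ω} (ha : a ∈ P) (hx : x ∈ P) :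
    f (a * x * a⁻¹) = f a * f x * (f a)⁻¹ := h.homOn.map_conj ha hx

theorem Mor.inj (h : Mor F P f) {x y : Ω} (hx : x ∈ P) (hy : y ∈ P) (hxy : f x = f y) : x = y := by
  obtain ⟨φ, hφ, h⟩ := h
  have := F.injective_of_mem hφ (a₁ := ⟨x, hx⟩) (a₂ := ⟨y, hy⟩) (by rw [h, h]; exact hxy)
  exact congrArg Subtype.val this

theorem Mor.eq_one_iff (h : Mor F P f) {x : Ω} (hx : x ∈ P) : f x = 1 ↔ x = 1 :=
  ⟨fun h1 => h.inj hx P.one_mem (h1.trans h.map_one.symm), fun h1 => h1 ▸ h.map_one⟩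

theorem Mor.mem_img (h : Mor F P f) {y : Ω} : y ∈ img P f ↔ ∃ x ∈ P, f x = y := h.homOn.mem_img

theorem Mor.img_le (h : Mor F P f) : img P f ≤ S := img_le_iff.2 fun _ hx => h.mem hx

theorem Mor.congr (h : Mor F P f) (hfg : ∀ x ∈ P, f x = g x) : Mor F P g := by
  obtain ⟨φ, hφ, h⟩ := h
  exact ⟨φ, hφ, fun x => (h x).trans (hfg x x.2)⟩

theorem mor_conj (F : FusionSystem S) (hP : P ≤ S) {a : Ω} (ha : a ∈ S) :
    Mor F P (fun x => a * x * a⁻¹) := ⟨conjHom P a, F.conj_mem hP ha, fun _ => rfl⟩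

theorem mor_id (F : FusionSystem S) (hP : P ≤ S) : Mor F P (fun x => x) :=
  (mor_conj F hP S.one_mem).congr fun x _ => by simp

/-- Composition: first `f` on `P`, then `g` on `Q`. -/
theorem Mor.comp (hf : Mor F P f) (hg : Mor F Q g) (h : ∀ x ∈ P, f x ∈ Q) :
    Mor F P (fun x => g (f x)) := by
  obtain ⟨φ, hφ, hf⟩ := hf
  obtain ⟨ψ, hψ, hg⟩ := hg
  refine ⟨_, F.comp_mem hφ hψ (fun x => by rw [hf]; exact h x x.2), fun x => ?_⟩
  simp only [MonoidHom.comp_apply]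
  rw [hg]
  simp [hf]

/-- Restriction. -/
theorem Mor.mono (hf : Mor F P f) (h : Q ≤ P) : Mor F Q f :=
  (mor_id F (h.trans hf.le)).comp hf fun _ hx => h hx

theorem Mor.comp_img (hf : Mor F P f) (hg : Mor F (img P f) g) : Mor F P (fun x => g (f x)) :=
  hf.comp hg fun _ hx => mem_img_of_mem f hx

/-- Inverses. -/
theorem Mor.exists_inv (hf : Mor F P f) : ∃ g : Ω → Ω, Mor F (img P f) g ∧
    (∀ x ∈ P, g (f x) = x) ∧ (∀ y ∈ img P f, f (g y) = y) ∧ (∀ y ∈ img P f, g y ∈ P) ∧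
    img (img P f) g = P := by
  have hf' := hf
  obtain ⟨φ, hφ, h⟩ := hf
  obtain ⟨ψ, hψ, hψφ⟩ := F.inv_mem hφ
  have hr : φ.range = img P f := range_eq_img φ h
  have h1 : Mor F (img P f) (fn ψ) := hr ▸ mor_fn hψ
  have h2 : ∀ x ∈ P, fn ψ (f x) = x := by
    intro x hx
    rw [← h ⟨x, hx⟩, fn_apply ψ ⟨⟨x, hx⟩, rfl⟩, hψφ]
  refine ⟨fn ψ, h1, h2, ?_, ?_, ?_⟩
  · intro y hy
    obtain ⟨x, hx, rfl⟩ := hf'.mem_img.1 hy
    rw [h2 x hx]
  · intro y hy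
    obtain ⟨x, hx, rfl⟩ := hf'.mem_img.1 hy
    rwa [h2 x hx]
  · rw [hf'.homOn.img_img, img_eq_self_of_eqOn h2]

/-- Inverses, with the image named. -/
theorem Mor.exists_inv' (hf : Mor F P f) (hQ : img P f = Q) : ∃ g : Ω → Ω, Mor F Q g ∧
    (∀ x ∈ P, g (f x) = x) ∧ (∀ y ∈ Q, f (g y) = y) ∧ (∀ y ∈ Q, g y ∈ P) ∧ img Q g = P := by
  subst hQ; exact hf.exists_inv

/-- A function that inverts a map of `F` on its image is a map of `F`. -/
theorem Mor.of_leftInv (hf : Mor F P f) (hg : ∀ x ∈ P, g (f x) = x) : Mor F (img P f) g := by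
  obtain ⟨g', h1, h2, -⟩ := hf.exists_inv
  refine h1.congr fun y hy => ?_
  obtain ⟨x, hx, rfl⟩ := hf.mem_img.1 hy
  rw [h2 x hx, hg x hx]

theorem Mor.exists_mulEquiv (hf : Mor F P f) (hQ : img P f = Q) :
    ∃ e : P ≃* Q, ∀ x : P, (e x : Ω) = f x := by
  subst hQ
  have hinj : Function.Injective hf.homOn.toHom := fun a b hab =>
    Subtype.ext (hf.inj a.2 b.2 hab)
  refine ⟨(MonoidHom.ofInjective hinj).trans (MulEquiv.subgroupCongr hf.homOn.img_eq_range.symm),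
    fun x => rfl⟩

theorem Mor.card_img (hf : Mor F P f) : Nat.card (img P f) = Nat.card P := by
  obtain ⟨e, -⟩ := hf.exists_mulEquiv rfl
  exact (Nat.card_congr e.toEquiv).symm

theorem Mor.card_img_of_le (hf : Mor F P f) (h : Q ≤ P) : Nat.card (img Q f) = Nat.card Q :=
  (hf.mono h).card_img

theorem Mor.orderOf_map (hf : Mor F P f) {x : Ω} (hx : x ∈ P) : orderOf (f x) = orderOf x := by
  obtain ⟨φ, hφ, h⟩ := hf
  rw [← h ⟨x, hx⟩, orderOf_injective φ (F.injective_of_mem hφ), Subgroup.orderOf_mk]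

theorem Mor.img_inf (hf : Mor F P f) (hQ : Q ≤ P) (hR : R ≤ P) :
    img (Q ⊓ R) f = img Q f ⊓ img R f := by
  apply le_antisymm
  · exact le_inf (img_mono f inf_le_left) (img_mono f inf_le_right)
  · rintro y ⟨h1, h2⟩
    obtain ⟨x, hx, rfl⟩ := (hf.mono hQ).mem_img.1 h1
    obtain ⟨x', hx', h⟩ := (hf.mono hR).mem_img.1 h2
    have := hf.inj (hR hx') (hQ hx) h
    subst this
    exact mem_img_of_mem f ⟨hx, hx'⟩

theorem Mor.mem_img_iff (hf : Mor F P f) (hQ : Q ≤ P) {x : Ω} (hx : x ∈ P) :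
    f x ∈ img Q f ↔ x ∈ Q := by
  constructor
  · intro h
    obtain ⟨y, hy, h⟩ := (hf.mono hQ).mem_img.1 h
    rwa [← hf.inj (hQ hy) hx h]
  · exact mem_img_of_mem f

theorem Mor.img_le_img_iff (hf : Mor F P f) (hQ : Q ≤ P) (hR : R ≤ P) :
    img Q f ≤ img R f ↔ Q ≤ R :=
  ⟨fun h _ hx => (hf.mem_img_iff hR (hQ hx)).1 (h (mem_img_of_mem f hx)), img_mono f⟩

theorem finite_of_le [Finite S] (h : P ≤ S) : Finite P :=
  Finite.of_injective _ (Subgroup.inclusion_injective h)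

theorem eq_of_le_of_card_le [Finite Q] (h : P ≤ Q) (hc : Nat.card Q ≤ Nat.card P) : P = Q :=
  Subgroup.eq_of_le_of_card_ge h hc

theorem card_lt_of_lt [Finite Q] (h : P < Q) : Nat.card P < Nat.card Q := by
  by_contra hc
  exact h.ne (eq_of_le_of_card_le h.le (not_lt.1 hc))

theorem card_le_of_le [Finite Q] (h : P ≤ Q) : Nat.card P ≤ Nat.card Q :=
  Subgroup.card_le_of_le h

/-- A map of `F` taking a (finite) `P` into a subgroup of at most the same order is onto it. -/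
theorem Mor.img_eq_of_card [Finite S] (hf : Mor F P f) (hQS : Q ≤ S) (h : ∀ x ∈ P, f x ∈ Q)
    (hc : Nat.card Q ≤ Nat.card P) : img P f = Q := by
  have := finite_of_le hQS
  exact eq_of_le_of_card_le (img_le_iff.2 h) (by rwa [hf.card_img])

theorem Mor.img_eq_self [Finite S] (hf : Mor F P f) (h : ∀ x ∈ P, f x ∈ P) : img P f = P :=
  hf.img_eq_of_card hf.le h le_rfl

theorem Mor.card_le [Finite S] (hf : Mor F P f) (hQS : Q ≤ S) (h : ∀ x ∈ P, f x ∈ Q) :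
    Nat.card P ≤ Nat.card Q := by
  have := finite_of_le hQS
  rw [← hf.card_img]
  exact card_le_of_le (img_le_iff.2 h)

theorem Mor.mem_normalizerIn (hf : Mor F R f) (hPR : P ≤ R) {a : Ω} (ha : a ∈ R)
    (haN : a ∈ Subgroup.normalizer (P : Set Ω)) : f a ∈ normalizerIn S (img P f) :=
  ⟨hf.mem ha, hf.homOn.mem_normalizer_img hPR ha haN⟩

theorem Mor.mem_centralizerIn (hf : Mor F R f) (hPR : P ≤ R) {a : Ω} (ha : a ∈ R)
    (haC : a ∈ Subgroup.centralizer (P : Set Ω)) : f a ∈ centralizerIn S (img P f) :=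
  ⟨hf.mem ha, hf.homOn.mem_centralizer_img hPR ha haC⟩

/-! ### Comparison of systems -/

theorem le_iff_mor {E : FusionSystem S} : F ≤ E ↔ ∀ P f, Mor F P f → Mor E P f :=
  ⟨fun h P _ ⟨φ, hφ, hf⟩ => ⟨φ, h P hφ, hf⟩, fun h P _ hφ => hom_iff_mor.2 (h P _ (mor_fn hφ))⟩

theorem isSubsystemOf_iff {T : Subgroup Ω} {E : FusionSystem T} :
    E.IsSubsystemOf F ↔ ∀ P f, Mor E P f → Mor F P f :=
  ⟨fun h P _ ⟨φ, hφ, hf⟩ => ⟨φ, h P hφ, hf⟩, fun h P _ hφ => hom_iff_mor.2 (h P _ (mor_fn hφ))⟩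

theorem Mor.of_sub {T : Subgroup Ω} {E : FusionSystem T} (hE : E.IsSubsystemOf F)
    (hf : Mor E P f) : Mor F P f := isSubsystemOf_iff.1 hE P f hf

theorem le_of_isSubsystemOf {T : Subgroup Ω} {E : FusionSystem T} (hE : E.IsSubsystemOf F) :
    T ≤ S := ((mor_id E le_rfl).of_sub hE).le

theorem hom_eq_iff_mor {T : Subgroup Ω} {E : FusionSystem T} :
    (∀ P, E.Hom P = F.Hom P) ↔ ∀ P f, Mor E P f ↔ Mor F P f := by
  constructor
  · intro h P f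
    unfold Mor
    rw [h]
  · intro h P
    ext φ
    rw [hom_iff_mor, hom_iff_mor, h]

theorem fs_ext {E : FusionSystem S} (h : ∀ P, E.Hom P = F.Hom P) : E = F := by
  cases E; cases F
  congr
  exact funext h

theorem fs_ext_mor {E : FusionSystem S} (h : ∀ P f, Mor E P f ↔ Mor F P f) : E = F :=
  fs_ext (hom_eq_iff_mor.2 h)

theorem fs_le_antisymm {E : FusionSystem S} (h₁ : E ≤ F) (h₂ : F ≤ E) : E = F :=
  fs_ext fun P => Set.Subset.antisymm (h₁ P) (h₂ P)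

/-- Build a fusion system from a predicate on (subgroup, function) pairs. -/
def ofMor (T : Subgroup Ω) (M : Subgroup Ω → (Ω → Ω) → Prop)
    (congr : ∀ {P f g}, M P f → (∀ x ∈ P, f x = g x) → M P g)
    (le : ∀ {P f}, M P f → P ≤ T ∧ ∀ x ∈ P, f x ∈ T)
    (inj : ∀ {P f}, M P f → ∀ x ∈ P, ∀ y ∈ P, f x = f y → x = y)
    (conj : ∀ {P a}, P ≤ T → a ∈ T → M P (fun x => a * x * a⁻¹))
    (comp : ∀ {P Q f g}, M P f → M Q g → (∀ x ∈ P, f x ∈ Q) → M P (fun x => g (f x)))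
    (inv : ∀ {P f}, HomOn P f → M P f → ∃ g, M (img P f) g ∧ ∀ x ∈ P, g (f x) = x) :
    FusionSystem T where
  Hom P := {φ | M P (fn φ)}
  le_of_mem h := ⟨(le h).1, fun x => by rw [← fn_coe]; exact (le h).2 x x.2⟩
  injective_of_mem := by
    intro P φ h a b hab
    exact Subtype.ext (inj h a a.2 b b.2 (by rw [fn_coe, fn_coe, hab]))
  conj_mem := by
    intro P a hP ha
    exact congr (conj hP ha) fun x hx => by rw [fn_apply _ hx]; rfl
  comp_mem := by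
    intro P Q φ ψ hφ hψ h
    refine congr (comp hφ hψ fun x hx => by rw [fn_apply _ hx]; exact h _) fun x hx => ?_
    rw [fn_apply _ hx, fn_apply _ hx, fn_apply _ (h _)]
    rfl
  inv_mem := by
    intro P φ hφ
    obtain ⟨g, hg, hgf⟩ := inv (homOn_fn φ) hφ
    have hr : φ.range = img P (fn φ) := range_eq_img φ fun x => (fn_coe φ x).symm
    have hh : HomOn φ.range g := by
      rintro _ ⟨x, rfl⟩ _ ⟨y, rfl⟩
      rw [← map_mul, ← fn_coe, ← fn_coe, ← fn_coe, hgf _ x.2, hgf _ y.2, hgf _ (x * y).2]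
      rfl
    refine ⟨hh.toHom, congr (hr ▸ hg) fun x hx => by rw [fn_apply _ hx]; rfl, fun x => ?_⟩
    rw [HomOn.toHom_apply]
    show g (φ x) = x
    rw [← fn_coe, hgf _ x.2]

theorem mor_ofMor {T : Subgroup Ω} {M : Subgroup Ω → (Ω → Ω) → Prop}
    {congr : ∀ {P f g}, M P f → (∀ x ∈ P, f x = g x) → M P g} {le inj conj comp inv} :
    Mor (ofMor T M congr le inj conj comp inv) P f ↔ HomOn P f ∧ M P f := by
  constructor
  · intro h
    refine ⟨h.homOn, ?_⟩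
    obtain ⟨φ, hφ, h⟩ := h
    exact congr hφ fun x hx => by rw [fn_apply _ hx, h]
  · rintro ⟨h1, h2⟩
    exact ⟨h1.toHom, congr h2 fun x hx => by rw [fn_apply _ hx]; rfl, fun _ => rfl⟩

/-! ### The standard systems -/

theorem homOn_conj (P : Subgroup Ω) (a : Ω) : HomOn P (fun x => a * x * a⁻¹) := by
  intro x _ y _
  simp [mul_assoc]

theorem mor_group_iff : Mor (groupFusionSystem S) P f ↔
    P ≤ S ∧ (∀ x ∈ P, f x ∈ S) ∧ ∃ a : Ω, ∀ x ∈ P, f x = a * x * a⁻¹ := by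
  constructor
  · rintro ⟨φ, ⟨h1, h2, a, h3⟩, h⟩
    exact ⟨h1, fun x hx => h ⟨x, hx⟩ ▸ h2 ⟨x, hx⟩, a, fun x hx => (h ⟨x, hx⟩).symm.trans (h3 _)⟩
  · rintro ⟨h1, h2, a, h3⟩
    exact ⟨conjHom P a, ⟨h1, fun x => by have := h2 x x.2; rwa [h3 x x.2] at this, a, fun _ => rfl⟩,
      fun x => (h3 x x.2).symm⟩

theorem mor_subgroup_iff {H T : Subgroup Ω} {hTH : T ≤ H} :
    Mor (fusionSystemOfSubgroup H T hTH) P f ↔
    P ≤ T ∧ (∀ x ∈ P, f x ∈ T) ∧ ∃ a ∈ H, ∀ x ∈ P, f x = a * x * a⁻¹ := by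
  constructor
  · rintro ⟨φ, ⟨h1, h2, a, ha, h3⟩, h⟩
    exact ⟨h1, fun x hx => h ⟨x, hx⟩ ▸ h2 ⟨x, hx⟩, a, ha,
      fun x hx => (h ⟨x, hx⟩).symm.trans (h3 _)⟩
  · rintro ⟨h1, h2, a, ha, h3⟩
    exact ⟨conjHom P a, ⟨h1, fun x => by have := h2 x x.2; rwa [h3 x x.2] at this, a, ha,
      fun _ => rfl⟩, fun x => (h3 x x.2).symm⟩

theorem mor_inner_iff : Mor (innerFusionSystem S) P f ↔
    P ≤ S ∧ ∃ a ∈ S, ∀ x ∈ P, f x = a * x * a⁻¹ := by
  constructor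
  · rintro ⟨φ, ⟨h1, a, ha, h3⟩, h⟩
    exact ⟨h1, a, ha, fun x hx => (h ⟨x, hx⟩).symm.trans (h3 _)⟩
  · rintro ⟨h1, a, ha, h3⟩
    exact ⟨conjHom P a, ⟨h1, a, ha, fun _ => rfl⟩, fun x => (h3 x x.2).symm⟩

theorem inner_le (F : FusionSystem S) : innerFusionSystem S ≤ F := by
  rw [le_iff_mor]
  intro P f h
  obtain ⟨h1, a, ha, h⟩ := mor_inner_iff.1 h
  exact (mor_conj F h1 ha).congr fun x hx => (h x hx).symm

/-! ### Conjugacy -/

theorem isConj_iff : F.IsConj P Q ↔ ∃ f, Mor F P f ∧ img P f = Q := by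
  constructor
  · rintro ⟨φ, hφ, rfl⟩
    exact ⟨fn φ, mor_fn hφ, (range_eq_img φ fun x => (fn_coe φ x).symm).symm⟩
  · rintro ⟨f, ⟨φ, hφ, h⟩, rfl⟩
    exact ⟨φ, hφ, range_eq_img φ h⟩

theorem Mor.isConj (hf : Mor F P f) : F.IsConj P (img P f) := isConj_iff.2 ⟨f, hf, rfl⟩

theorem isConj_refl (F : FusionSystem S) (hP : P ≤ S) : F.IsConj P P :=
  isConj_iff.2 ⟨_, mor_id F hP, img_id P⟩

theorem isConj_symm (h : F.IsConj P Q) : F.IsConj Q P := by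
  obtain ⟨f, hf, rfl⟩ := isConj_iff.1 h
  obtain ⟨g, hg, -, -, -, h⟩ := hf.exists_inv
  exact isConj_iff.2 ⟨g, hg, h⟩

theorem isConj_trans (h₁ : F.IsConj P Q) (h₂ : F.IsConj Q R) : F.IsConj P R := by
  obtain ⟨f, hf, rfl⟩ := isConj_iff.1 h₁
  obtain ⟨g, hg, rfl⟩ := isConj_iff.1 h₂
  exact isConj_iff.2 ⟨_, hf.comp_img hg, (hf.homOn.img_img g).symm⟩

theorem isConj_le_left (h : F.IsConj P Q) : P ≤ S := by
  obtain ⟨f, hf, -⟩ := isConj_iff.1 h; exact hf.le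

theorem isConj_le_right (h : F.IsConj P Q) : Q ≤ S := isConj_le_left (isConj_symm h)

theorem isConj_card (h : F.IsConj P Q) : Nat.card P = Nat.card Q := by
  obtain ⟨f, hf, rfl⟩ := isConj_iff.1 h; exact hf.card_img.symm

theorem isConjElt_iff {x y : Ω} : F.IsConjElt x y ↔ ∃ f, Mor F (Subgroup.zpowers x) f ∧ f x = y := by
  constructor
  · rintro ⟨φ, hφ, rfl⟩
    exact ⟨fn φ, mor_fn hφ, fn_apply φ _⟩
  · rintro ⟨f, ⟨φ, hφ, h⟩, rfl⟩
    exact ⟨φ, hφ, h _⟩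

theorem Mor.isConjElt (hf : Mor F P f) {x : Ω} (hx : x ∈ P) : F.IsConjElt x (f x) :=
  isConjElt_iff.2 ⟨f, hf.mono ((Subgroup.zpowers_le).2 hx), rfl⟩

theorem stronglyClosed_iff : F.StronglyClosed P ↔
    P ≤ S ∧ ∀ R f, Mor F R f → ∀ x ∈ R, x ∈ P → f x ∈ P := by
  constructor
  · rintro ⟨h1, h2⟩
    refine ⟨h1, fun R f hf x hxR hxP => ?_⟩
    obtain ⟨φ, hφ, h⟩ := hf.mono (inf_le_left : R ⊓ P ≤ R)
    have := h2 _ inf_le_right φ hφ ⟨x, hxR, hxP⟩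
    rwa [h] at this
  · rintro ⟨h1, h2⟩
    refine ⟨h1, fun R hR φ hφ x => ?_⟩
    rw [← fn_coe]
    exact h2 R _ (mor_fn hφ) x x.2 (hR x.2)

theorem Mor.mem_of_stronglyClosed (hf : Mor F R f) (hP : F.StronglyClosed P) {x : Ω} (hxR : x ∈ R)
    (hxP : x ∈ P) : f x ∈ P := (stronglyClosed_iff.1 hP).2 R f hf x hxR hxP

theorem weaklyClosed_iff : F.WeaklyClosed P ↔ P ≤ S ∧ ∀ f, Mor F P f → img P f = P := by
  constructor
  · rintro ⟨h1, h2⟩
    refine ⟨h1, ?_⟩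
    rintro f ⟨φ, hφ, h⟩
    rw [← range_eq_img φ h, h2 φ hφ]
  · rintro ⟨h1, h2⟩
    refine ⟨h1, fun φ hφ => ?_⟩
    rw [range_eq_img φ fun x => (fn_coe φ x).symm, h2 _ (mor_fn hφ)]

theorem isNormal_iff : F.IsNormal Q ↔ Q ≤ S ∧ ∀ P f, Mor F P f →
    ∃ g, Mor F (P ⊔ Q) g ∧ (∀ x ∈ P, g x = f x) ∧ img Q g = Q := by
  constructor
  · rintro ⟨h1, h2⟩
    refine ⟨h1, ?_⟩
    rintro P f ⟨φ, hφ, h⟩
    obtain ⟨ψ, hψ, h3, h4⟩ := h2 P φ hφ
    refine ⟨fn ψ, mor_fn hψ, fun x hx => ?_, ?_⟩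
    · rw [fn_apply ψ (Subgroup.mem_sup_left hx), ← h ⟨x, hx⟩, ← h3]; rfl
    · rw [← map_subgroupOf_eq_img le_sup_right ψ fun x => (fn_coe ψ x).symm, h4]
  · rintro ⟨h1, h2⟩
    refine ⟨h1, fun P φ hφ => ?_⟩
    obtain ⟨g, ⟨ψ, hψ, h⟩, h3, h4⟩ := h2 P _ (mor_fn hφ)
    refine ⟨ψ, hψ, fun x => ?_, ?_⟩
    · rw [h, ← fn_coe, ← h3 x x.2]; rfl
    · rw [map_subgroupOf_eq_img le_sup_right ψ h, h4]

theorem isCentral_iff : F.IsCentral Q ↔ Q ≤ S ∧ ∀ P f, Mor F P f →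
    ∃ g, Mor F (P ⊔ Q) g ∧ (∀ x ∈ P, g x = f x) ∧ ∀ x ∈ Q, g x = x := by
  constructor
  · rintro ⟨h1, h2⟩
    refine ⟨h1, ?_⟩
    rintro P f ⟨φ, hφ, h⟩
    obtain ⟨ψ, hψ, h3, h4⟩ := h2 P φ hφ
    refine ⟨fn ψ, mor_fn hψ, fun x hx => ?_, fun x hx => ?_⟩
    · rw [fn_apply ψ (Subgroup.mem_sup_left hx), ← h ⟨x, hx⟩, ← h3]; rfl
    · rw [fn_apply ψ (Subgroup.mem_sup_right hx)]; exact h4 ⟨x, hx⟩
  · rintro ⟨h1, h2⟩
    refine ⟨h1, fun P φ hφ => ?_⟩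
    obtain ⟨g, ⟨ψ, hψ, h⟩, h3, h4⟩ := h2 P _ (mor_fn hφ)
    refine ⟨ψ, hψ, fun x => ?_, fun x => ?_⟩
    · rw [h, ← fn_coe, ← h3 x x.2]; rfl
    · rw [h]; exact h4 x x.2

theorem mem_normalizerHom_iff {φ : P →* Ω} : φ ∈ F.normalizerHom Q P ↔
    P ≤ normalizerIn S Q ∧ (∀ x : P, φ x ∈ normalizerIn S Q) ∧
      ∃ g, Mor F (P ⊔ Q) g ∧ (∀ x : P, g x = φ x) ∧ img Q g = Q := by
  constructor
  · rintro ⟨-, h1, h2, ψ, hψ, h3, h4⟩
    refine ⟨h1, h2, fn ψ, mor_fn hψ, fun x => ?_, ?_⟩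
    · rw [fn_apply ψ (Subgroup.mem_sup_left x.2), ← h3]; rfl
    · rw [← map_subgroupOf_eq_img le_sup_right ψ fun x => (fn_coe ψ x).symm, h4]
  · rintro ⟨h1, h2, g, hg, h3, h4⟩
    refine ⟨(hg.mono le_sup_left).hom_mem fun x => (h3 x).symm, h1, h2, ?_⟩
    obtain ⟨ψ, hψ, h⟩ := hg
    refine ⟨ψ, hψ, fun x => ?_, ?_⟩
    · rw [h, ← h3]; rfl
    · rw [map_subgroupOf_eq_img le_sup_right ψ h, h4]

theorem mem_centralizerHom_iff {φ : P →* Ω} : φ ∈ F.centralizerHom Q P ↔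
    P ≤ centralizerIn S Q ∧ (∀ x : P, φ x ∈ centralizerIn S Q) ∧
      ∃ g, Mor F (P ⊔ Q) g ∧ (∀ x : P, g x = φ x) ∧ ∀ x ∈ Q, g x = x := by
  constructor
  · rintro ⟨-, h1, h2, ψ, hψ, h3, h4⟩
    refine ⟨h1, h2, fn ψ, mor_fn hψ, fun x => ?_, fun x hx => ?_⟩
    · rw [fn_apply ψ (Subgroup.mem_sup_left x.2), ← h3]; rfl
    · rw [fn_apply ψ (Subgroup.mem_sup_right hx)]; exact h4 ⟨x, hx⟩
  · rintro ⟨h1, h2, g, hg, h3, h4⟩
    refine ⟨(hg.mono le_sup_left).hom_mem fun x => (h3 x).symm, h1, h2, ?_⟩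
    obtain ⟨ψ, hψ, h⟩ := hg
    refine ⟨ψ, hψ, fun x => ?_, fun x => ?_⟩
    · rw [h, ← h3]; rfl
    · rw [h]; exact h4 x x.2

/-- Maps of a normalizer system. -/
theorem mor_normalizer_iff {E : FusionSystem (normalizerIn S Q)} (hE : F.IsNormalizerSystem Q E) :
    Mor E P f ↔ P ≤ normalizerIn S Q ∧
      ∃ g, Mor F (P ⊔ Q) g ∧ (∀ x ∈ P, g x = f x) ∧ img Q g = Q := by
  constructor
  · rintro ⟨φ, hφ, h⟩
    rw [hE] at hφ
    obtain ⟨h1, -, g, hg, h3, h4⟩ := mem_normalizerHom_iff.1 hφ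
    exact ⟨h1, g, hg, fun x hx => (h3 ⟨x, hx⟩).trans (h _), h4⟩
  · rintro ⟨h1, g, hg, h3, h4⟩
    have hf : Mor F P f := (hg.mono le_sup_left).congr h3
    refine ⟨hf.homOn.toHom, ?_, fun _ => rfl⟩
    rw [hE]
    refine mem_normalizerHom_iff.2 ⟨h1, fun x => ?_, g, hg, fun x => h3 x x.2, h4⟩
    have := hg.mem_normalizerIn le_sup_right (Subgroup.mem_sup_left x.2) (h1 x.2).2
    rwa [h4, h3 x x.2] at this

/-- Maps of a centralizer system. -/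
theorem mor_centralizer_iff {E : FusionSystem (centralizerIn S Q)}
    (hE : F.IsCentralizerSystem Q E) :
    Mor E P f ↔ P ≤ centralizerIn S Q ∧
      ∃ g, Mor F (P ⊔ Q) g ∧ (∀ x ∈ P, g x = f x) ∧ ∀ x ∈ Q, g x = x := by
  constructor
  · rintro ⟨φ, hφ, h⟩
    rw [hE] at hφ
    obtain ⟨h1, -, g, hg, h3, h4⟩ := mem_centralizerHom_iff.1 hφ
    exact ⟨h1, g, hg, fun x hx => (h3 ⟨x, hx⟩).trans (h _), h4⟩
  · rintro ⟨h1, g, hg, h3, h4⟩
    have hf : Mor F P f := (hg.mono le_sup_left).congr h3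
    refine ⟨hf.homOn.toHom, ?_, fun _ => rfl⟩
    rw [hE]
    refine mem_centralizerHom_iff.2 ⟨h1, fun x => ?_, g, hg, fun x => h3 x x.2, h4⟩
    have := hg.mem_centralizerIn le_sup_right (Subgroup.mem_sup_left x.2) (h1 x.2).2
    rwa [img_eq_self_of_eqOn h4, h3 x x.2] at this

/-! ### Normalizers and centralizers inside `S` -/

theorem mem_normalizerIn {x : Ω} :
    x ∈ normalizerIn S P ↔ x ∈ S ∧ x ∈ Subgroup.normalizer (P : Set Ω) := Iff.rfl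

theorem mem_centralizerIn {x : Ω} :
    x ∈ centralizerIn S P ↔ x ∈ S ∧ x ∈ Subgroup.centralizer (P : Set Ω) := Iff.rfl

theorem normalizerIn_le : normalizerIn S P ≤ S := inf_le_left

theorem centralizerIn_le : centralizerIn S P ≤ S := inf_le_left

theorem le_normalizerIn (h : P ≤ S) : P ≤ normalizerIn S P := le_inf h Subgroup.le_normalizer

theorem centralizerIn_le_normalizerIn : centralizerIn S P ≤ normalizerIn S P :=
  inf_le_inf_left _ (Subgroup.centralizer_le_normalizer _)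

theorem conj_mem_of_mem_normalizer {a x : Ω} (ha : a ∈ Subgroup.normalizer (P : Set Ω))
    (hx : x ∈ P) : a * x * a⁻¹ ∈ P := (Subgroup.mem_normalizer_iff.1 ha x).1 hx

theorem conj_mem_of_mem_normalizer' {a x : Ω} (ha : a ∈ Subgroup.normalizer (P : Set Ω))
    (hx : x ∈ P) : a⁻¹ * x * a ∈ P := (Subgroup.mem_normalizer_iff''.1 ha x).1 hx

theorem mem_normalizer_of_conj_mem [Finite P] {a : Ω} (h : ∀ x ∈ P, a * x * a⁻¹ ∈ P) :
    a ∈ Subgroup.normalizer (P : Set Ω) := Subgroup.mem_normalizer_fintype h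

theorem mem_normalizer_iff_img {a : Ω} :
    a ∈ Subgroup.normalizer (P : Set Ω) ↔ img P (fun x => a * x * a⁻¹) = P := by
  constructor
  · intro h
    apply le_antisymm
    · exact img_le_iff.2 fun x hx => conj_mem_of_mem_normalizer h hx
    · intro x hx
      have := mem_img_of_mem (fun x => a * x * a⁻¹) (conj_mem_of_mem_normalizer' h hx)
      simpa [mul_assoc] using this
  · intro h
    rw [Subgroup.mem_normalizer_iff]
    intro x
    constructor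
    · intro hx; rw [← h]; exact mem_img_of_mem (fun x => a * x * a⁻¹) hx
    · intro hx
      rw [← h] at hx
      obtain ⟨y, hy, h⟩ := (homOn_conj P a).mem_img.1 hx
      have : y = x := by simpa using h
      exact this ▸ hy

theorem mem_centralizer_iff_conj {a : Ω} :
    a ∈ Subgroup.centralizer (P : Set Ω) ↔ ∀ x ∈ P, a * x * a⁻¹ = x := by
  constructor
  · intro h x hx; rw [← h x hx]; simp
  · intro h x hx
    have := h x hx
    calc x * a = a * x * a⁻¹ * a := by rw [this]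
      _ = a * x := by simp

end Cfsg.Agent.H95
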