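import Cfsg.Agent.H63.GvDefs
import Cfsg.Agent.H16.IvSk

/-! Project CY, route GV: flat pairs are fixed by the same involutions. -/

set_option autoImplicit false

namespace Cfsg.Agent.H63.Gv.Fe

open Subgroup MulAction Cfsg.Agent.H11.Cy Cfsg.Agent.H45.Iv

variable {G : Type} [Group G] {Ω : Type} [MulAction G Ω] {p : ℕ} {A : Ω → Subgroup G}

theorem half (h : St p A) (cx : Cx p A) (nil : NIL A) {P : Set Ω} (mb : MB A P) (mk : MK A P)
    (yp : YP A P) (tf : TF A P) {y b : Ω} (hy : y ∈ P) (hb : b ∈ P) (hyb : y ≠ b) {a : G}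
    (ha : a ∈ A y) (ha1 : a ≠ 1) (ft : Ft A P y b a) {Ψ : Set Ω} (mx : Mx A P Ψ) {z : G}
    (hz : z ∈ Ts A Ψ ⊓ Cs A Ψ) (hz' : z ∉ Cs A P) (hyΨ : y ∈ Ψ) : b ∈ Ψ := by
  have gd : Good A Ψ := mb.2.2 Ψ mx.1 mx.2.1 mx.2.2.1
  have zz : z * z = 1 := cx.gb Ψ mx.1 gd ⟨y, hyΨ⟩ z hz
  have zM : z ∈ Ms A P := (mk.mono Ψ P mx.2.1).1 (mk.tle Ψ hz.1)
  have zy : z • y = y := cx.sk.csfix Ψ z hz.2 y hyΨ
  have zzw : ∀ w : Ω, z • z • w = w := fun w => by rw [← mul_smul, zz, one_smul]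
  have hc : z • b ∈ P := cx.sk.inv P mb.1 z zM b hb
  have hyc : y ≠ z • b := fun e => hyb (by rw [← zzw b, ← e, zy])
  have za : a * z = z * a := mem_centralizer_iff.1 ((cx.sk.cs Ψ z).1 hz.2 y hyΨ) a ha
  have ft' : Ft A P y (z • b) a := by
    obtain ⟨β, h1, h2, h3⟩ := ft
    have e : a * (z * β * z⁻¹)⁻¹ = z * (a * β⁻¹) * z⁻¹ := by
      rw [← mul_assoc z, ← za]; group
    refine ⟨z * β * z⁻¹, h.eqv z b β h1, ?_, ?_⟩
    · have := (cx.sk.cj z y b _).2.1 h2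
      rwa [zy, ← e] at this
    · have h4 := mem_centralizer_iff.1 h3 z zM
      rw [e, show z * (a * β⁻¹) * z⁻¹ * (z * (a * β⁻¹) * z⁻¹) =
        z * (a * β⁻¹ * (a * β⁻¹)) * z⁻¹ by group, h4, mul_inv_cancel_right]
      exact h3
  obtain ⟨S, pS, nS, hS, eS⟩ := tf y hy b hb _ hc hyb hyc a ha ha1 ft ft'
  obtain ⟨s1, s2, s3, -, s5⟩ := nil y S pS nS
  have inv : ∀ w ∈ Ov A S y, z • w ∈ Ov A S y := by
    intro w hw
    change A _ ≤ _ at hw ⊢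
    rw [eS] at hw ⊢
    have := map_mono (f := (MulAut.conj z).toMonoidHom) hw
    rw [Subgroup.map_sup, Subgroup.map_sup, ← H16.IvSk.A_smul h, ← H16.IvSk.A_smul h,
      ← H16.IvSk.A_smul h, ← H16.IvSk.A_smul h, zy, zzw] at this
    rwa [sup_right_comm]
  refine yp Ψ mx z hz hz' _ s1 s2 (fun w hw => ?_) (fun w => ⟨fun hw => zzw w ▸ inv _ hw, inv w⟩)
    y s3 hyΨ ?_
  · obtain ⟨t, ht, rfl⟩ := (cx.ga _ s1 s2 y s3).tr w hw
    exact cx.sk.inv P mb.1 t (hS (s5 ht)) y hy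
  · change A _ ≤ _
    rw [eS]
    exact le_sup_right.trans le_sup_left

theorem fe : FeStmt := by
  intro G _ _ Ω _ _ p A h cx nil P mb mk yp tf y hy b hb hyb a ha ha1 ft Ψ mx z hz hz'
  refine ⟨half h cx nil mb mk yp tf hy hb hyb ha ha1 ft mx hz hz', ?_⟩
  obtain ⟨β, h1, h2, h3⟩ := ft
  refine half h cx nil mb mk yp tf hb hy hyb.symm h1 ?_ ⟨a, ha, ?_, ?_⟩ mx hz hz'
  · rintro rfl
    exact ha1 ((cx.ls y b hyb).1.disj y a ha (by simpa using h2))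
  · have e : Rl A b y = Rl A y b := by simp only [Rl, Fl, sup_comm]
    rw [e]
    simpa using inv_mem h2
  · simpa [mul_assoc] using inv_mem h3

end Cfsg.Agent.H63.Gv.Fe
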