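import Mathlib
import Cfsg.Agent.H9.GWBasic
import Cfsg.Agent.H62.Derangement
import Cfsg.Agent.H52.DGrp
import Cfsg.Agent.H89.PBasic

/-!
# The number of involutions modulo four
-/

set_option autoImplicit false
set_option linter.unusedVariables false
set_option linter.unusedSectionVars false

namespace Cfsg.Agent.H95

open Subgroup

theorem four_dvd_ncard {X : Type*} {Y : Set X} (hY : Y.Finite) (σ τ : X → X)
    (h1 : ∀ y ∈ Y, σ y ∈ Y) (h2 : ∀ y ∈ Y, τ y ∈ Y) (h3 : ∀ y ∈ Y, σ (σ y) = y)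
    (h4 : ∀ y ∈ Y, τ (τ y) = y) (h5 : ∀ y ∈ Y, σ (τ y) = τ (σ y)) (h6 : ∀ y ∈ Y, σ y ≠ y)
    (h7 : ∀ y ∈ Y, τ y ≠ y) (h8 : ∀ y ∈ Y, σ y ≠ τ y) : 4 ∣ Y.ncard := by
  let a : Equiv.Perm Y := Function.Involutive.toPerm (fun y => ⟨σ y, h1 y y.2⟩)
    fun y => Subtype.ext (h3 y y.2)
  let b : Equiv.Perm Y := Function.Involutive.toPerm (fun y => ⟨τ y, h2 y y.2⟩)
    fun y => Subtype.ext (h4 y y.2)
  have ha : a * a = 1 := Equiv.ext fun y => Subtype.ext (h3 y y.2)
  have hb : b * b = 1 := Equiv.ext fun y => Subtype.ext (h4 y y.2)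
  have hab : a * b = b * a := Equiv.ext fun y => Subtype.ext (h5 y y.2)
  have := hY.to_subtype
  have h9 := H62.dvd_ncard_of_dvd_orbits (H := H9.GW.V4 a b) 4 (Set.univ : Set Y) Set.finite_univ
    (fun _ _ _ => trivial) fun y _ => by
      have e : MulAction.orbit (H9.GW.V4 a b) y = {y, a y, b y, a (b y)} := by
        ext x
        constructor
        · rintro ⟨⟨g, hg⟩, rfl⟩
          rcases (H9.GW.mem_V4 ha hb hab).1 hg with rfl | rfl | rfl | rfl <;>
            simp [Subgroup.mk_smul]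
        · rintro (rfl | rfl | rfl | rfl)
          · exact MulAction.mem_orbit_self _
          · exact ⟨⟨a, (H9.GW.mem_V4 ha hb hab).2 (by simp)⟩, rfl⟩
          · exact ⟨⟨b, (H9.GW.mem_V4 ha hb hab).2 (by simp)⟩, rfl⟩
          · exact ⟨⟨a * b, (H9.GW.mem_V4 ha hb hab).2 (by simp)⟩, rfl⟩
      rw [e, Nat.card_coe_set_eq]
      have e1 : y ≠ a y := fun h => h6 y y.2 (congrArg Subtype.val h).symm
      have e2 : y ≠ b y := fun h => h7 y y.2 (congrArg Subtype.val h).symm
      have e3 : a y ≠ b y := fun h => h8 y y.2 (congrArg Subtype.val h)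
      have e4 : y ≠ a (b y) := fun h => e3 (by
        conv_lhs => rw [h]
        exact Subtype.ext (h3 _ (b y).2))
      have e5 : a y ≠ a (b y) := fun h => e2 (a.injective h)
      have e6 : b y ≠ a (b y) := fun h => h6 _ (b y).2 (congrArg Subtype.val h).symm
      rw [Set.ncard_insert_of_notMem (by simp [e1, e2, e4]),
        Set.ncard_insert_of_notMem (by simp [e3, e5]), Set.ncard_pair e6]
  rwa [Set.ncard_univ, Nat.card_coe_set_eq] at h9

theorem card_invol_modEq {G : Type*} [Group G] [Finite G] (S : Sylow 2 G)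
    (h4 : 4 ≤ Nat.card (S : Subgroup G)) :
    Nat.card {t : G // orderOf t = 2} ≡ Nat.card {t : (S : Subgroup G) // orderOf t = 2} [MOD 4] := by
  classical
  let R : G → Subgroup (S : Subgroup G) := fun y => (centralizer {y}).subgroupOf S
  have hR : ∀ y (s : (S : Subgroup G)), s ∈ R y ↔ (s : G) * y = y * s := fun y s =>
    mem_centralizer_singleton_iff
  have hmax : ∀ (y : G) (T : Subgroup G), IsPGroup 2 T → (S : Subgroup G) ≤ T →
      y ∈ T → y ∈ (S : Subgroup G) := fun y T hT hST hyT => by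
    rw [← S.is_maximal' hT hST]; exact hyT
  let Y : Set G := {y | orderOf y = 2 ∧ y ∉ (S : Subgroup G)}
  have hconj : ∀ (s : (S : Subgroup G)), ∀ y ∈ Y, (s : G) * y * (s : G)⁻¹ ∈ Y := by
    intro s y hy
    refine ⟨by rw [H52.orderOf_conj'', hy.1], fun h => hy.2 ?_⟩
    have := mul_mem (mul_mem (inv_mem s.2) h) s.2
    simpa [mul_assoc] using this
  have hRc : ∀ (s : (S : Subgroup G)) (y : G),
      R ((s : G) * y * (s : G)⁻¹) = (R y).map (MulAut.conj s).toMonoidHom := by
    intro s y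
    ext x
    rw [mem_map_equiv, hR, hR]
    simp only [MulAut.conj_symm_apply, Subgroup.coe_mul, InvMemClass.coe_inv]
    constructor
    · intro h
      calc (s : G)⁻¹ * x * s * y = (s : G)⁻¹ * (x * (s * y * (s : G)⁻¹)) * s := by group
        _ = y * ((s : G)⁻¹ * x * s) := by rw [h]; group
    · intro h
      calc (x : G) * (s * y * (s : G)⁻¹) = s * ((s : G)⁻¹ * x * s * y) * (s : G)⁻¹ := by group
        _ = s * y * (s : G)⁻¹ * x := by rw [h]; group
  have hR1 : ∀ y ∈ Y, R y ≠ ⊤ := by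
    intro y hy h
    refine hy.2 (hmax y ((S : Subgroup G) ⊔ zpowers y) (S.isPGroup'.to_sup_of_normal_left'
      (H52.isPGroup_two_zpowers hy.1) ?_) le_sup_left (mem_sup_right (mem_zpowers y)))
    rw [zpowers_le]
    apply centralizer_le_normalizer
    rw [mem_centralizer_iff]
    intro s hs
    exact (hR y ⟨s, hs⟩).1 (h ▸ mem_top _)
  have hY1 : 4 ∣ {y ∈ Y | (R y).index ≠ 2}.ncard := by
    let φ : (S : Subgroup G) →* MulAut G := MulAut.conj.comp (S : Subgroup G).subtype
    let act : MulAction (S : Subgroup G) G := MulAction.compHom G φ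
    refine @H62.dvd_ncard_of_dvd_orbits _ _ _ act 4 _ (Set.toFinite _) (fun s y hy => ?_)
      fun y hy => ?_
    · refine ⟨hconj s y hy.1, ?_⟩
      change (R ((s : G) * y * (s : G)⁻¹)).index ≠ 2
      rw [hRc, index_map_of_bijective (MulAut.conj s).bijective]
      exact hy.2
    · rw [Nat.card_coe_set_eq, ← @MulAction.index_stabilizer _ _ _ act]
      have e : @MulAction.stabilizer _ _ _ act y = R y := by
        ext s
        rw [hR]
        exact mul_inv_eq_iff_eq_mul
      rw [e]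
      obtain ⟨k, hk⟩ := S.isPGroup'.index (R y)
      have h1 : k ≠ 0 := by
        rintro rfl
        exact hR1 y hy.1 (index_eq_one.1 hk)
      have h2 : k ≠ 1 := by
        rintro rfl
        exact hy.2 hk
      rw [hk]
      exact (Nat.pow_dvd_pow 2 (by omega : 2 ≤ k) : 2 ^ 2 ∣ 2 ^ k)
  have hY2 : 4 ∣ {y ∈ Y | (R y).index = 2}.ncard := by
    have h1 : ∀ T : Subgroup (S : Subgroup G), ∃ v s : (S : Subgroup G), T.index = 2 →
        v ∈ T ∧ v ∈ center (S : Subgroup G) ∧ orderOf v = 2 ∧ s ∉ T := by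
      intro T
      by_cases hT : T.index = 2
      · have := normal_of_index_eq_two hT
        obtain ⟨v, h1, h2, h3⟩ := H89.exists_center_orderOf_of_normal S.isPGroup' (N := T) (by
          rintro rfl
          rw [index_bot] at hT
          omega)
        obtain ⟨s, hs⟩ : ∃ s, s ∉ T := by
          by_contra! hn
          rw [(eq_top_iff' T).2 hn, index_top] at hT
          omega
        exact ⟨v, s, fun _ => ⟨h1, h2, h3, hs⟩⟩
      · exact ⟨1, 1, fun h => absurd h hT⟩
    choose v s hvs using h1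
    have hv2 : ∀ y, (R y).index = 2 → (v (R y) : G) * v (R y) = 1 := fun y hy => by
      rw [← Subgroup.coe_mul, ← sq, orderOf_dvd_iff_pow_eq_one.1 (hvs _ hy).2.2.1.dvd,
        Subgroup.coe_one]
    have hvy : ∀ y, (R y).index = 2 → (v (R y) : G) * y = y * v (R y) := fun y hy =>
      (hR y _).1 (hvs _ hy).1
    have hvc : ∀ y, (R y).index = 2 → ∀ x : (S : Subgroup G),
        (x : G) * v (R y) = v (R y) * x := fun y hy x =>
      congrArg Subtype.val (mem_center_iff.1 (hvs _ hy).2.1 x)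
    have hRσ : ∀ y, (R y).index = 2 → R (y * v (R y)) = R y := by
      intro y hy
      ext x
      rw [hR, hR, mul_assoc, ← hvc y hy, ← mul_assoc, ← mul_assoc, mul_left_inj]
    have hRτ : ∀ y, (R y).index = 2 → ∀ x : (S : Subgroup G),
        R ((x : G) * y * (x : G)⁻¹) = R y := by
      intro y hy x
      have := normal_of_index_eq_two hy
      rw [hRc]
      exact Normal.map_conj_eq _ x
    have hy2 : ∀ y ∈ Y, y * y = 1 := fun y hy => by
      rw [← sq, orderOf_dvd_iff_pow_eq_one.1 hy.1.dvd]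
    refine four_dvd_ncard (Set.toFinite _) (fun y => y * v (R y))
      (fun y => (s (R y) : G) * y * (s (R y) : G)⁻¹) (fun y hy => ⟨⟨?_, fun h => ?_⟩, ?_⟩)
      (fun y hy => ⟨hconj _ y hy.1, ?_⟩) (fun y hy => ?_) (fun y hy => ?_) (fun y hy => ?_)
      (fun y hy h => ?_) (fun y hy h => ?_) (fun y hy h => ?_)
    · refine orderOf_eq_prime ?_ fun h => hy.1.2 ?_
      · rw [sq, mul_assoc, ← mul_assoc (v (R y) : G), hvy y hy.2, mul_assoc, hv2 y hy.2, mul_one,
          hy2 y hy.1]
      · rw [eq_inv_of_mul_eq_one_left h]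
        exact inv_mem (v (R y)).2
    · exact hy.1.2 ((mul_mem_cancel_right (v (R y)).2).1 h)
    · rw [hRσ y hy.2]; exact hy.2
    · rw [hRτ y hy.2]; exact hy.2
    · rw [hRσ y hy.2, mul_assoc, hv2 y hy.2, mul_one]
    · rw [hRτ y hy.2]
      have := (hR y _).1 (mul_self_mem_of_index_two hy.2 (s (R y)))
      rw [Subgroup.coe_mul] at this
      calc (s (R y) : G) * (s (R y) * y * (s (R y) : G)⁻¹) * (s (R y) : G)⁻¹
          = (s (R y) * s (R y) * y) * ((s (R y) : G) * s (R y))⁻¹ := by group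
        _ = y := by rw [this]; group
    · rw [hRτ y hy.2, hRσ y hy.2]
      have := hvc y hy.2 (s (R y))⁻¹
      rw [InvMemClass.coe_inv] at this
      rw [mul_assoc, this]; group
    · have : (v (R y) : G) = 1 := by simpa using h
      have h2 := (hvs _ hy.2).2.2.1
      rw [show v (R y) = 1 from Subtype.ext this, orderOf_one] at h2
      omega
    · exact (hvs _ hy.2).2.2.2 ((hR y _).2 (mul_inv_eq_iff_eq_mul.1 h))
    · refine hy.1.2 (hmax y ((S : Subgroup G) ⊔ zpowers y) (S.isPGroup'.to_sup_of_normal_left'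
        (H52.isPGroup_two_zpowers hy.1.1) ?_) le_sup_left (mem_sup_right (mem_zpowers y)))
      rw [zpowers_le]
      apply mem_normalizer_fintype
      intro x hx
      have key : ∀ r : (S : Subgroup G), r ∈ R y → y * r * y⁻¹ = r := fun r hr => by
        rw [← (hR y r).1 hr]; group
      have key2 : y * s (R y) * y⁻¹ = s (R y) * v (R y) := by
        have e1 : y⁻¹ = y := inv_eq_of_mul_eq_one_right (hy2 y hy.1)
        have e2 : (s (R y) : G) * y = y * v (R y) * s (R y) := by rw [h]; group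
        rw [e1, mul_assoc, e2, ← mul_assoc, ← mul_assoc, hy2 y hy.1, one_mul, hvc y hy.2]
      by_cases hxR : (⟨x, hx⟩ : (S : Subgroup G)) ∈ R y
      · rw [key _ hxR]; exact hx
      · have h3 : (⟨x, hx⟩ : (S : Subgroup G)) * s (R y) ∈ R y :=
          (mul_mem_iff_of_index_two hy.2).2 (by simp [hxR, (hvs _ hy.2).2.2.2])
        have h5 := key _ h3
        rw [Subgroup.coe_mul] at h5
        have : y * x * y⁻¹ = (y * (x * s (R y)) * y⁻¹) * (y * s (R y) * y⁻¹)⁻¹ := by group
        rw [this, h5, key2]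
        exact mul_mem (mul_mem hx (s (R y)).2) (inv_mem (mul_mem (s (R y)).2 (v (R y)).2))
  have e1 : Nat.card {t : G // orderOf t = 2} = {t : G | orderOf t = 2}.ncard :=
    Nat.card_coe_set_eq _
  have e2 : Nat.card {t : (S : Subgroup G) // orderOf t = 2} =
      {t : G | orderOf t = 2 ∧ t ∈ (S : Subgroup G)}.ncard := by
    rw [← Nat.card_coe_set_eq]
    exact Nat.card_congr
      { toFun := fun t => ⟨t.1, by rw [orderOf_coe]; exact t.2, t.1.2⟩
        invFun := fun t => ⟨⟨t.1, t.2.2⟩, by rw [← orderOf_coe]; exact t.2.1⟩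
        left_inv := fun _ => rfl
        right_inv := fun _ => rfl }
  have e3 : {t : G | orderOf t = 2} = {t : G | orderOf t = 2 ∧ t ∈ (S : Subgroup G)} ∪
      ({y ∈ Y | (R y).index ≠ 2} ∪ {y ∈ Y | (R y).index = 2}) := by
    ext t
    simp only [Set.mem_ofPred_eq, Set.mem_union, Y]
    tauto
  rw [e1, e2, e3, Set.ncard_union_eq, Set.ncard_union_eq]
  · exact ((Nat.modEq_iff_dvd' (Nat.le_add_right _ _)).2 (by
      rw [Nat.add_sub_cancel_left]; exact dvd_add hY1 hY2)).symm
  · exact Set.disjoint_left.2 fun t h1 h2 => h1.2 h2.2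
  · exact Set.disjoint_left.2 fun t h1 h2 => h2.elim (fun h => h.1.2 h1.2) fun h => h.1.2 h1.2

end Cfsg.Agent.H95
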