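import Mathlib
import Cfsg.Agent.H76.K0Defs

set_option autoImplicit false

namespace Cfsg.Agent.H95.K0Ar

open Cfsg.Agent.H76.K0

theorem key (p b1 b2 : ℤ) (hp : 11 ≤ p) (h1 : b1 ^ 2 ≤ p - 1) (h2 : b2 ^ 2 ≤ 2 * p - 4)
    (hd : p ∣ b2 - 2 * b1) : b2 = 2 * b1 := by
  have h3 : (b2 - 2 * b1) ^ 2 < p ^ 2 := by nlinarith [sq_nonneg (3 * b2 + 4 * b1)]
  have h4 : |b2 - 2 * b1| < p := abs_lt_of_sq_lt_sq h3 (by omega)
  have := Int.eq_zero_of_abs_lt_dvd hd h4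
  omega

theorem sumf (n p : ℤ) (N : ℕ) :
    2 * ∑ i ∈ Finset.range N, (2 * ((i : ℤ) - n) ^ 2 - i * (p - i)) =
      (N - 1) * N * (2 * N - 1) - (4 * n + p) * N * (N - 1) + 4 * n ^ 2 * N := by
  induction N with
  | zero => simp
  | succ k ih =>
    rw [Finset.sum_range_succ, mul_add, ih]
    push_cast
    ring

theorem sum_val (k : ℕ) (F : ℕ → ℤ) :
    ∑ x : ZMod (k + 1), F x.val = ∑ i ∈ Finset.range (k + 1), F i :=
  Fin.sum_univ_eq_sum_range F (k + 1)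

theorem ar : ArStmt := by
  intro p hp hp2 d e hd he h
  obtain ⟨n, rfl⟩ := hp.odd_of_ne_two hp2
  have : Fact (2 * n + 1).Prime := ⟨hp⟩
  by_contra h3
  have hn1 : 1 ≤ n := by have := hp.two_le; omega
  have hn2 : 2 ≤ n := by omega
  let m : ℤ → ZMod (2 * n + 1) → ℤ := fun t x => ((x * t + n).val : ℤ) - n
  have hm : ∀ (t : ℤ) (x : ZMod (2 * n + 1)), ((2 * n + 1 : ℕ) : ℤ) ∣ m t x - x.val * t := by
    intro t x
    rw [← ZMod.intCast_zmod_eq_zero_iff_dvd]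
    simp only [m]
    push_cast
    simp only [ZMod.natCast_val, ZMod.cast_id', id_eq]
    ring
  have hs : ∀ t : ℤ, ¬ ((2 * n + 1 : ℕ) : ℤ) ∣ t →
      ∑ x, m t x ^ 2 = ∑ x : ZMod (2 * n + 1), ((x.val : ℤ) - n) ^ 2 := by
    intro t ht
    rw [← ZMod.intCast_zmod_eq_zero_iff_dvd] at ht
    exact Fintype.sum_equiv ((Equiv.mulRight₀ (t : ZMod (2 * n + 1)) ht).trans (Equiv.addRight n))
      _ _ fun x => rfl
  have hz : ∑ x : ZMod (2 * n + 1),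
      (m d x ^ 2 + m e x ^ 2 - x.val * (((2 * n + 1 : ℕ) : ℤ) - x.val)) = 0 := by
    have h1 := sumf n ((2 * n + 1 : ℕ) : ℤ) (2 * n + 1)
    rw [← sum_val (2 * n) (fun i => 2 * ((i : ℤ) - n) ^ 2 - i * (((2 * n + 1 : ℕ) : ℤ) - i)),
      Finset.sum_sub_distrib, ← Finset.mul_sum] at h1
    rw [Finset.sum_sub_distrib, Finset.sum_add_distrib, hs d hd, hs e he]
    have h2 : (((2 * n + 1 : ℕ) : ℤ) - 1) * ((2 * n + 1 : ℕ) : ℤ) * (2 * ((2 * n + 1 : ℕ) : ℤ) - 1) -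
        (4 * n + ((2 * n + 1 : ℕ) : ℤ)) * ((2 * n + 1 : ℕ) : ℤ) * (((2 * n + 1 : ℕ) : ℤ) - 1) +
        4 * n ^ 2 * ((2 * n + 1 : ℕ) : ℤ) = 0 := by
      push_cast
      ring
    rw [h2] at h1
    linarith
  have hz2 := (Finset.sum_eq_zero_iff_of_nonneg (fun x _ => by
    have := h x.val _ _ (hm d x) (hm e x)
    nlinarith)).1 hz
  have v1 : (1 : ZMod (2 * n + 1)).val = 1 := ZMod.val_one _
  have v2 : ((2 : ℕ) : ZMod (2 * n + 1)).val = 2 := ZMod.val_cast_of_lt (by omega)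
  have e1 := hz2 1 (Finset.mem_univ _)
  have e2 := hz2 ((2 : ℕ) : ZMod (2 * n + 1)) (Finset.mem_univ _)
  have d1 := hm d 1
  have d2 := hm d ((2 : ℕ) : ZMod (2 * n + 1))
  have f1 := hm e 1
  have f2 := hm e ((2 : ℕ) : ZMod (2 * n + 1))
  rw [v1] at e1 d1 f1
  rw [v2] at e2 d2 f2
  generalize m d 1 = b1 at *
  generalize m e 1 = c1 at *
  generalize m d ((2 : ℕ) : ZMod (2 * n + 1)) = b2 at *
  generalize m e ((2 : ℕ) : ZMod (2 * n + 1)) = c2 at *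
  have hb : b1 ≠ 0 := by
    rintro rfl
    apply hd
    simpa using d1
  have hc : c1 ≠ 0 := by
    rintro rfl
    apply he
    simpa using f1
  have db : ((2 * n + 1 : ℕ) : ℤ) ∣ b2 - 2 * b1 := by
    have h0 := dvd_sub d2 (d1.mul_left 2)
    have h1 : b2 - ((2 : ℕ) : ℤ) * d - 2 * (b1 - ((1 : ℕ) : ℤ) * d) = b2 - 2 * b1 := by
      push_cast
      ring
    exact h1 ▸ h0
  have dc : ((2 * n + 1 : ℕ) : ℤ) ∣ c2 - 2 * c1 := by
    have h0 := dvd_sub f2 (f1.mul_left 2)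
    have h1 : c2 - ((2 : ℕ) : ℤ) * e - 2 * (c1 - ((1 : ℕ) : ℤ) * e) = c2 - 2 * c1 := by
      push_cast
      ring
    exact h1 ▸ h0
  clear d1 d2 f1 f2 hz hz2 hs hm h
  push_cast at e1 e2 db dc
  by_cases h5 : 5 ≤ n
  · have k1 := key _ b1 b2 (by omega) (by nlinarith [sq_nonneg c1]) (by nlinarith [sq_nonneg c2]) db
    have k2 := key _ c1 c2 (by omega) (by nlinarith [sq_nonneg b1]) (by nlinarith [sq_nonneg b2]) dc
    subst k1 k2
    have : (5 : ℤ) ≤ n := by exact_mod_cast h5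
    nlinarith
  · have hn4 : n ≠ 4 := by
      rintro rfl
      norm_num at hp
    have hn : (n : ℤ) = 2 ∨ (n : ℤ) = 3 := by omega
    have b3 : -3 < b1 ∧ b1 < 3 := by
      constructor <;> rcases hn with hn | hn <;> nlinarith [sq_nonneg c1]
    have c3 : -3 < c1 ∧ c1 < 3 := by
      constructor <;> rcases hn with hn | hn <;> nlinarith [sq_nonneg b1]
    obtain ⟨b4, b5⟩ := b3
    obtain ⟨c4, c5⟩ := c3
    rcases hn with hn | hn <;> rw [hn] at e1 <;> interval_cases b1 <;> interval_cases c1 <;>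
      simp_all

end Cfsg.Agent.H95.K0Ar
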