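import Cfsg.Agent.H76.K4Defs
import Cfsg.Agent.S4542
import Cfsg.Agent.S0960

set_option autoImplicit false

namespace Cfsg.Agent.H95.K4Small

open Cfsg Cfsg.Agent.H76.K4

universe u

theorem small : SmallStmt.{u} := by
  intro G _ _ p hp M hM h4 P
  have key : ∀ q : ℕ, q.Prime → Nat.card (P : Subgroup G) = q → 4 ≤ q := by
    intro q hq hP
    have : Fact q.Prime := ⟨hq⟩
    have h := S4542.result p M hM _ H17.isPBlock_principalBlock (P : Subgroup G) (H17.dg_principal hM P)
      (P : Subgroup G)
      le_rfl (fun z hz d hd => by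
        have : IsCyclic (P : Subgroup G) := isCyclic_of_prime_card hP
        have h := (IsCyclic.isMulCommutative (α := (P : Subgroup G))).is_comm.comm ⟨z, hz⟩ ⟨d, hd⟩
        exact congrArg Subtype.val h) (isCyclic_of_prime_card hP) (by simp)
    omega
  refine ⟨fun h => ?_, fun h => ?_, fun h => ?_⟩
  · have := key 2 Nat.prime_two h
    omega
  · have := key 3 Nat.prime_three h
    omega
  · obtain ⟨n, hn⟩ := IsPGroup.iff_card.1 P.isPGroup'
    have h7 : p = 7 := by
      have h1 : (7 : ℕ) ∣ p ^ n := by rw [← hn, h]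
      exact ((Nat.prime_dvd_prime_iff_eq (by norm_num) hp.out).1
        ((by norm_num : Nat.Prime 7).dvd_of_dvd_pow h1)).symm
    subst h7
    have h2 := (S0960.result 7 M hM (by norm_num) P h _ rfl).1
    rw [h4] at h2
    generalize (Subgroup.centralizer ((P : Subgroup G) : Set G)).relIndex
      (Subgroup.normalizer ((P : Subgroup G) : Set G)) = e at h2
    have he : e ≤ 4 := h2 ▸ Nat.le_add_right _ _
    interval_cases e <;> omega

end Cfsg.Agent.H95.K4Small
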