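import Cfsg.Agent.H44.K5Defs

set_option autoImplicit false

namespace Cfsg.Agent.H95.K5Uni

open Cfsg.Agent.H44.K5 Matrix

theorem pos_conj {m n : ℕ} (A : Matrix (Fin m) (Fin m) ℤ) (Q : Matrix (Fin m) (Fin n) ℤ)
    (hA : ∀ x : Fin m → ℤ, x ≠ 0 → 0 < x ⬝ᵥ A *ᵥ x) (hQ : ∀ x, Q *ᵥ x = 0 → x = 0)
    (x : Fin n → ℤ) (hx : x ≠ 0) : 0 < x ⬝ᵥ (Qᵀ * A * Q) *ᵥ x := by
  have := hA (Q *ᵥ x) fun h => hx (hQ x h)
  rwa [← mulVec_mulVec, ← mulVec_mulVec, dotProduct_mulVec, vecMul_transpose]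

def ext {n : ℕ} (Q : Matrix (Fin (n + 1)) (Fin n) ℤ) : Matrix (Fin (n + 1)) (Fin (n + 1)) ℤ :=
  of fun i j => Fin.cases (if i = 0 then 1 else 0) (Q i) j

theorem e00 {n : ℕ} (B : Matrix (Fin (n + 1)) (Fin (n + 1)) ℤ) (Q : Matrix (Fin (n + 1)) (Fin n) ℤ) :
    ((ext Q)ᵀ * B * ext Q) 0 0 = B 0 0 := by
  simp [ext, mul_apply]

theorem e0s {n : ℕ} (B : Matrix (Fin (n + 1)) (Fin (n + 1)) ℤ) (Q : Matrix (Fin (n + 1)) (Fin n) ℤ)
    (j : Fin n) : ((ext Q)ᵀ * B * ext Q) 0 j.succ = (B * Q) 0 j := by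
  simp [ext, mul_apply]

theorem ess {n : ℕ} (B : Matrix (Fin (n + 1)) (Fin (n + 1)) ℤ) (Q : Matrix (Fin (n + 1)) (Fin n) ℤ)
    (i j : Fin n) : ((ext Q)ᵀ * B * ext Q) i.succ j.succ = (Qᵀ * B * Q) i j := by
  simp [ext, mul_apply]

theorem sym {m n : ℕ} (A : Matrix (Fin m) (Fin m) ℤ) (Q : Matrix (Fin m) (Fin n) ℤ) (h : Aᵀ = A) :
    (Qᵀ * A * Q)ᵀ = Qᵀ * A * Q := by
  rw [transpose_mul, transpose_mul, h, transpose_transpose, Matrix.mul_assoc]

theorem uni (herm : HermStmt) : UniStmt := by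
  intro n
  induction n with
  | zero => exact fun _ A _ _ _ => ⟨1, Subsingleton.elim _ _⟩
  | succ n ih =>
    intro hn A hs hp hd
    obtain ⟨U, hU, hle⟩ := herm n A hs hp
    have hB := pos_conj A U hp fun x hx => eq_zero_of_mulVec_eq_zero hU.ne_zero hx
    have hBs := sym A U hs
    have hBd : (Uᵀ * A * U).det = 1 := by
      rw [det_mul, det_mul, det_transpose, hd, mul_one]
      exact Int.isUnit_mul_self hU
    generalize hBe : Uᵀ * A * U = B at hB hBs hBd hle
    have h0 : 0 < B 0 0 := by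
      have := hB (Pi.single 0 1) (by simp)
      simpa using this
    have h1 : B 0 0 = 1 := by
      by_contra h
      have h2 : 2 ≤ B 0 0 := by omega
      have h3 := pow_le_pow_left₀ (by norm_num) h2 (n + 1)
      rw [hd] at hle
      have hn' : n ≤ 4 := by omega
      generalize B 0 0 ^ (n + 1) = y at h3 hle
      interval_cases n <;> norm_num at h3 hle <;> omega
    let P : Matrix (Fin (n + 1)) (Fin n) ℤ :=
      of fun i j => Fin.cases (-B 0 j.succ) (fun i => if i = j then 1 else 0) i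
    have hP : ∀ j, (B * P) 0 j = 0 := by
      intro j
      simp [P, mul_apply, Fin.sum_univ_succ, h1]
    have hPi : ∀ x, P *ᵥ x = 0 → x = 0 := by
      intro x hx
      funext i
      have := congrFun hx i.succ
      simpa [P, mulVec, dotProduct] using this
    have hT : (ext P).det = 1 := by
      rw [det_succ_column_zero, Fin.sum_univ_succ]
      have : (ext P).submatrix (Fin.succAbove 0) Fin.succ = 1 := by
        ext i j
        simp [ext, P, one_apply]
      rw [this]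
      simp [ext]
    have hS : (Pᵀ * B * P).det = 1 := by
      have h4 : ((ext P)ᵀ * B * ext P).det = 1 := by
        rw [det_mul, det_mul, det_transpose, hT, hBd]
        norm_num
      rw [det_succ_row_zero, Fin.sum_univ_succ] at h4
      have : ((ext P)ᵀ * B * ext P).submatrix Fin.succ (Fin.succAbove 0) = Pᵀ * B * P := by
        ext i j
        exact ess B P i j
      rw [this, e00, h1] at h4
      simpa [e0s, hP] using h4
    obtain ⟨V, hV⟩ := ih (by omega) _ (sym B P hBs) (pos_conj B P hB hPi) hS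
    refine ⟨U * ext (P * V), ?_⟩
    have h5 : (U * ext (P * V))ᵀ * A * (U * ext (P * V)) = (ext (P * V))ᵀ * B * ext (P * V) := by
      rw [← hBe, transpose_mul]
      simp only [Matrix.mul_assoc]
    have h6 : ∀ j : Fin n, ((ext (P * V))ᵀ * B * ext (P * V)) 0 j.succ = 0 := by
      intro j
      rw [e0s, ← Matrix.mul_assoc, mul_apply]
      simp [hP]
    rw [h5]
    ext i j
    refine Fin.cases ?_ (fun i => ?_) i <;> refine Fin.cases ?_ (fun j => ?_) j
    · rw [e00, h1]
      simp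
    · rw [h6, one_apply_ne (Fin.succ_ne_zero j).symm]
    · rw [← sym B _ hBs, transpose_apply, h6, one_apply_ne (Fin.succ_ne_zero i)]
    · have h7 : (P * V)ᵀ * B * (P * V) = 1 := by
        rw [← hV, transpose_mul]
        simp only [Matrix.mul_assoc]
      rw [ess, h7]
      simp [one_apply]

end Cfsg.Agent.H95.K5Uni
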