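import Cfsg.Agent.H17.KnDefs

/-! Centralisers and complements in the model. -/

set_option autoImplicit false
set_option maxRecDepth 100000
set_option synthInstance.maxSize 2000

namespace Cfsg.Agent.H17.Kn.M3a

open Equiv Subgroup Cfsg.Agent.H11.A16

/-- a sign change -/
def sg (a0 a1 a2 a3 a4 a5 a6 a7 : ZMod 2) : N2 := ⟨1, ![a0, a1, a2, a3, a4, a5, a6, a7]⟩

theorem eq_sg {m : N2} (h : m ∈ PP) :
    m = sg (m.f 0) (m.f 1) (m.f 2) (m.f 3) (m.f 4) (m.f 5) (m.f 6) (m.f 7) :=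
  N2.ext h (funext fun p => by fin_cases p <;> rfl)

theorem PP_ind {Q : N2 → Prop} (h : ∀ a0 a1 a2 a3 a4 a5 a6 a7, Q (sg a0 a1 a2 a3 a4 a5 a6 a7))
    {m : N2} (hm : m ∈ PP) : Q m := eq_sg hm ▸ h ..

theorem AA_ind {Q : N2 → Prop} (h : ∀ s c, Q ⟨x s, fun _ => c⟩) {m : N2} (hm : m ∈ AA) : Q m :=
  (N2.ext (Equiv.ext hm.1) (funext hm.2) : m = ⟨x (m.σ 0), fun _ => m.f 0⟩) ▸ h ..

theorem fix {m e : N2} (h : Commute m e) (he : e.σ = 1) (r : P) : e.f (m.σ r) = e.f r := by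
  have := congrArg (fun u : N2 => u.f r) h.eq
  simp only [N2.mul_f, he, Perm.one_apply] at this
  rw [add_comm] at this
  exact (add_left_cancel this).symm

theorem cEE (m : N2) (h : ∀ e ∈ EE, Commute m e) : m ∈ PP := by
  have k1 : ∀ p q, dl p * dl q ∈ EE := by decide +kernel
  have k2 : ∀ r s : P, (∀ q, (dl r * dl q).f s = (dl r * dl q).f r) → s = r := by decide +kernel
  exact Equiv.ext fun r => k2 r _ fun q => fix (h _ (k1 r q)) rfl r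

theorem blk {m : N2} (h : ∀ i : Fin 4, i ≠ 3 → Commute m (wb i 0)) : m ∈ JJ := by
  have k : ∀ r s : P, (∀ i : Fin 4, i ≠ 3 → (wb i 0).f s = (wb i 0).f r) → s = r ∨ s = x 1 r := by
    decide +kernel
  exact mem_JJ.2 fun r => k r _ fun i hi => fix (h i hi) rfl r

theorem wbF : ∀ i k, wb i k ∈ FF := by decide +kernel

theorem tr {m : N2} {s : P} (h : Commute m (sec2 (x s))) (p : P) :
    m.σ (x s p) = x s (m.σ p) ∧ m.f (x s p) = m.f p := by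
  refine ⟨congrArg (fun u : N2 => u.σ p) h.eq, ?_⟩
  have : 0 + m.f (x s p) = m.f p + 0 := congrArg (fun u : N2 => u.f p) h.eq
  rwa [zero_add, add_zero] at this

theorem cFF (m : N2) (h : ∀ e ∈ FF, Commute m e) : m ∈ FF :=
  have k := tr (h (sec2 (x 1)) (by decide +kernel))
  ⟨blk fun i _ => h _ (wbF i 0), fun p => (k p).1, fun p => (k p).2⟩

theorem cAA (m : N2) (h : ∀ a ∈ AA, Commute m a) : m ∈ AA := by
  have k1 : ∀ s, sec2 (x s) ∈ AA := by decide +kernel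
  have k2 : ∀ s : P, x s 0 = s := by decide
  have k3 : ∀ s t : P, x s t = s ^^^ t := by decide
  refine ⟨fun p => ?_, fun p => ?_⟩
  · have := (tr (h _ (k1 p)) 0).1
    rw [k2, k3] at this
    exact this
  · have := (tr (h _ (k1 p)) 0).2
    rwa [k2] at this

theorem xeP : ∀ j, xe 0 j ∈ AP := by decide +kernel

theorem xcm {K : Subgroup N2} {i j : Fin 5} (h : xe i j ∈ K) (c : ZMod 2) : xc c i j ∈ K := by
  unfold xc
  split_ifs
  exacts [one_mem _, h]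

/-- the affine sign change that agrees with `e` on a basis -/
def af (e : N2) : N2 :=
  xc (e.f 0) 0 4 * xc (e.f 0 + e.f 1) 0 1 * xc (e.f 0 + e.f 2) 0 2 * xc (e.f 0 + e.f 4) 0 3

theorem AP_of {e : N2} (h : e = af e) : e ∈ AP := by
  rw [h]
  exact mul_mem (mul_mem (mul_mem (xcm (xeP _) _) (xcm (xeP _) _)) (xcm (xeP _) _)) (xcm (xeP _) _)

theorem cQQ (h2 : Mod2) (m : N2) (h : ∀ a ∈ QQ, Commute m a) : m = 1 ∨ m = z2 := by
  have k2 := fun j => h _ (h2.le.2.2.2.2.1 (xeP j))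
  revert k2
  exact AA_ind (Q := fun m => (∀ j, Commute m (xe 0 j)) → m = 1 ∨ m = z2) (by decide +kernel)
    (cAA m fun a ha => h a (h2.le.2.2.2.1 ha))

theorem cAP (m : N2) (hm : m ∈ QE) (h : ∀ a ∈ AP, Commute m a) : m ∈ EE := by
  have k2 : ∀ r s : P, (∀ j, (xe 0 j).f s = (xe 0 j).f r) → s = r := by decide +kernel
  exact ⟨Equiv.ext fun r => k2 r _ fun j => fix (h _ (xeP j)) (xeP j).2 r, hm.2⟩

theorem cPA (m : N2) (hm : m ∈ PP) (h : ∀ a ∈ AA, Commute m a) : m = 1 ∨ m = z2 := by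
  revert hm
  exact AA_ind (Q := fun m => m ∈ PP → m = 1 ∨ m = z2) (by decide +kernel) (cAA m h)

theorem cFV (h2 : Mod2) (m : N2) (hm : m ∈ FF) (h : ∀ a ∈ VV, Commute m a) : m ∈ PI := by
  refine ⟨cAA m fun a ha => ?_, hm⟩
  have k : ∀ i, xe i 4 ∈ FF ∨ xe i 4 ∈ VV := by decide +kernel
  have := h2.gAA (centralizer {m}) (fun i => mem_centralizer_singleton_iff.2 ?_) ha
  · exact (mem_centralizer_singleton_iff.1 this).symm
  · rcases k i with k | k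
    · exact h2.ab.2.1 _ k _ hm
    · exact (h _ k).symm

theorem cDP (m : N2) (h : ∀ e ∈ DP, Commute m e) : m ∈ JJ := by
  have k : ∀ i : Fin 4, i ≠ 3 → wb i 0 ∈ DP := by decide +kernel
  exact blk fun i hi => h _ (k i hi)

theorem nPA (m : N2) (hm : m ∈ PP) (h : ∀ a ∈ AA, m * a * m⁻¹ ∈ AA) : m ∈ AP := by
  have k1 : ∀ i, xe i 4 ∈ AA := by decide +kernel
  have k2 := fun i => h _ (k1 i)
  refine AP_of ?_
  revert k2
  exact PP_ind (Q := fun m => (∀ i, m * xe i 4 * m⁻¹ ∈ AA) → m = af m) (by decide +kernel) hm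

theorem qk (m : N2) (h : m ∈ QK) (hm : m ∈ PP) : m ∈ AP := ⟨h, hm⟩

theorem homA (c : Fin 3 → ZMod 2) : ∃ b ∈ AP, b * xe 1 4 * b⁻¹ = xe 1 4 * zp (c 0) ∧
    b * xe 2 4 * b⁻¹ = xe 2 4 * zp (c 1) ∧ b * xe 3 4 * b⁻¹ = xe 3 4 * zp (c 2) := by
  refine ⟨xc (c 0) 0 1 * xc (c 1) 0 2 * xc (c 2) 0 3,
    mul_mem (mul_mem (xcm (xeP _) _) (xcm (xeP _) _)) (xcm (xeP _) _), ?_⟩
  generalize c 0 = a
  generalize c 1 = b
  generalize c 2 = d
  revert a b d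
  decide +kernel

theorem sq_f {s : P} {a : N2} (ha : a ∈ PP) (h : (sec2 (x s) * a) ^ 2 = 1) (p : P) :
    a.f p = a.f (x s p) := by
  have e : a.σ = 1 := ha
  have := congrArg (fun u : N2 => u.f p) h
  simp only [sq, N2.mul_f, N2.mul_σ, e, N2.one_f, mul_one, Perm.one_apply] at this
  change a.f p + 0 + (a.f (x s p) + 0) = 0 at this
  revert this
  generalize a.f p = u
  generalize a.f (x s p) = v
  revert u v
  decide

theorem cm_f {s t : P} {a b : N2} (ha : a ∈ PP) (hb : b ∈ PP)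
    (h : Commute (sec2 (x s) * a) (sec2 (x t) * b)) (p : P) :
    b.f p + a.f (x t p) = a.f p + b.f (x s p) := by
  have e : a.σ = 1 := ha
  have e' : b.σ = 1 := hb
  have := congrArg (fun u : N2 => u.f p) h.eq
  simp only [N2.mul_f, N2.mul_σ, e, e', mul_one, Perm.one_apply] at this
  change b.f p + 0 + (a.f (x t p) + 0) = a.f p + 0 + (b.f (x s p) + 0) at this
  simpa only [add_zero] using this

theorem cj_f {s : P} {a e : N2} (ha : a ∈ PP) (he : e ∈ PP)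
    (h : ∀ p, e.f p + e.f (x s p) = a.f p) : e * sec2 (x s) * e⁻¹ = sec2 (x s) * a := by
  have e1 : a.σ = 1 := ha
  have e2 : e.σ = 1 := he
  refine N2.ext (by simp [e1, e2]) (funext fun p => ?_)
  simp only [N2.mul_f, N2.inv_f, N2.inv_σ, e1, e2, inv_one, Perm.one_apply]
  change e.f p + (0 + e.f (x s p)) = a.f p + 0
  rw [zero_add, add_zero, h]

theorem cpl (a : N2) (ha : a ∈ PP) (b : N2) (hb : b ∈ PP) (c : N2) (hc : c ∈ PP)
    (s1 : (xe 1 4 * a) ^ 2 = 1) (s2 : (xe 2 4 * b) ^ 2 = 1) (s3 : (xe 3 4 * c) ^ 2 = 1)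
    (c1 : Commute (xe 1 4 * a) (xe 2 4 * b)) (c2 : Commute (xe 1 4 * a) (xe 3 4 * c))
    (c3 : Commute (xe 2 4 * b) (xe 3 4 * c)) : ∃ e ∈ PP, e * xe 1 4 * e⁻¹ = xe 1 4 * a ∧
      e * xe 2 4 * e⁻¹ = xe 2 4 * b ∧ e * xe 3 4 * e⁻¹ = xe 3 4 * c := by
  have t1 := sq_f (s := 1) ha s1
  have t2 := sq_f (s := 2) hb s2
  have t3 := sq_f (s := 4) hc s3
  have d1 := cm_f (s := 1) (t := 2) ha hb c1
  have d2 := cm_f (s := 1) (t := 4) ha hc c2
  have d3 := cm_f (s := 2) (t := 4) hb hc c3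
  have a0 : a.f 0 = a.f 1 := t1 0
  have a2 : a.f 2 = a.f 3 := t1 2
  have a4 : a.f 4 = a.f 5 := t1 4
  have a6 : a.f 6 = a.f 7 := t1 6
  have b0 : b.f 0 = b.f 2 := t2 0
  have b1 : b.f 1 = b.f 3 := t2 1
  have b4 : b.f 4 = b.f 6 := t2 4
  have b5 : b.f 5 = b.f 7 := t2 5
  have g0 : c.f 0 = c.f 4 := t3 0
  have g1 : c.f 1 = c.f 5 := t3 1
  have g2 : c.f 2 = c.f 6 := t3 2
  have g3 : c.f 3 = c.f 7 := t3 3
  have u0 : b.f 0 + a.f 2 = a.f 0 + b.f 1 := d1 0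
  have u4 : b.f 4 + a.f 6 = a.f 4 + b.f 5 := d1 4
  have v0 : c.f 0 + a.f 4 = a.f 0 + c.f 1 := d2 0
  have v2 : c.f 2 + a.f 6 = a.f 2 + c.f 3 := d2 2
  have w0 : c.f 0 + b.f 4 = b.f 0 + c.f 2 := d3 0
  have he : sg 0 (a.f 0) (b.f 0) (b.f 0 + a.f 2) (c.f 0) (c.f 0 + a.f 4) (c.f 0 + b.f 4)
      (c.f 0 + b.f 4 + a.f 6) ∈ PP := rfl
  refine ⟨_, he, cj_f (s := 1) ha he fun p => ?_, cj_f (s := 2) hb he fun p => ?_,
    cj_f (s := 4) hc he fun p => ?_⟩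
  · fin_cases p
    · change 0 + a.f 0 = a.f 0; grind
    · change a.f 0 + 0 = a.f 1; grind
    · change b.f 0 + (b.f 0 + a.f 2) = a.f 2; grind
    · change b.f 0 + a.f 2 + b.f 0 = a.f 3; grind
    · change c.f 0 + (c.f 0 + a.f 4) = a.f 4; grind
    · change c.f 0 + a.f 4 + c.f 0 = a.f 5; grind
    · change c.f 0 + b.f 4 + (c.f 0 + b.f 4 + a.f 6) = a.f 6; grind
    · change c.f 0 + b.f 4 + a.f 6 + (c.f 0 + b.f 4) = a.f 7; grind
  · fin_cases p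
    · change 0 + b.f 0 = b.f 0; grind
    · change a.f 0 + (b.f 0 + a.f 2) = b.f 1; grind
    · change b.f 0 + 0 = b.f 2; grind
    · change b.f 0 + a.f 2 + a.f 0 = b.f 3; grind
    · change c.f 0 + (c.f 0 + b.f 4) = b.f 4; grind
    · change c.f 0 + a.f 4 + (c.f 0 + b.f 4 + a.f 6) = b.f 5; grind
    · change c.f 0 + b.f 4 + c.f 0 = b.f 6; grind
    · change c.f 0 + b.f 4 + a.f 6 + (c.f 0 + a.f 4) = b.f 7; grind
  · fin_cases p
    · change 0 + c.f 0 = c.f 0; grind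
    · change a.f 0 + (c.f 0 + a.f 4) = c.f 1; grind
    · change b.f 0 + (c.f 0 + b.f 4) = c.f 2; grind
    · change b.f 0 + a.f 2 + (c.f 0 + b.f 4 + a.f 6) = c.f 3; grind
    · change c.f 0 + 0 = c.f 4; grind
    · change c.f 0 + a.f 4 + a.f 0 = c.f 5; grind
    · change c.f 0 + b.f 4 + b.f 0 = c.f 6; grind
    · change c.f 0 + b.f 4 + a.f 6 + (b.f 0 + a.f 2) = c.f 7; grind

theorem f1 : ∀ a b c e, (xe 2 4 * (wb 0 a * wb 1 b * wb 2 c * wb 3 e)) ^ 2 = 1 → b = a ∧ e = c := by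
  simp only [sq]
  decide +kernel

theorem f2 : ∀ a b c e, (xe 3 4 * (wb 0 a * wb 1 b * wb 2 c * wb 3 e)) ^ 2 = 1 → c = a ∧ e = b := by
  simp only [sq]
  decide +kernel

theorem f3 : ∀ a c a' b', Commute (xe 2 4 * (wb 0 a * wb 1 a * wb 2 c * wb 3 c))
    (xe 3 4 * (wb 0 a' * wb 1 b' * wb 2 a' * wb 3 b')) → ∃ k,
    wb 1 a * wb 2 a' * wb 3 k * xe 2 4 * (wb 1 a * wb 2 a' * wb 3 k)⁻¹ =
      xe 2 4 * (wb 0 a * wb 1 a * wb 2 c * wb 3 c) ∧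
    wb 1 a * wb 2 a' * wb 3 k * xe 3 4 * (wb 1 a * wb 2 a' * wb 3 k)⁻¹ =
      xe 3 4 * (wb 0 a' * wb 1 b' * wb 2 a' * wb 3 b') := by
  decide +kernel

theorem cplF (h1 : Mod1) (b : N2) (hb : b ∈ FF) (c : N2) (hc : c ∈ FF) (s1 : (xe 2 4 * b) ^ 2 = 1)
    (s2 : (xe 3 4 * c) ^ 2 = 1) (h : Commute (xe 2 4 * b) (xe 3 4 * c)) :
    ∃ e ∈ FF, e * xe 2 4 * e⁻¹ = xe 2 4 * b ∧ e * xe 3 4 * e⁻¹ = xe 3 4 * c := by
  obtain ⟨a1, a2, a3, a4, rfl⟩ := h1.nfF b hb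
  obtain ⟨b1, b2, b3, b4, rfl⟩ := h1.nfF c hc
  obtain ⟨rfl, rfl⟩ := f1 _ _ _ _ s1
  obtain ⟨rfl, rfl⟩ := f2 _ _ _ _ s2
  obtain ⟨k, e⟩ := f3 _ _ _ _ h
  exact ⟨_, mul_mem (mul_mem (wbF _ _) (wbF _ _)) (wbF _ _), e⟩

/-- the part of the normal form that lies in `U1` -/
def uf (u : N2) : N2 := xc (en u 0 4) 0 4 * xc (en u 1 4) 1 4 * xc (en u 0 3) 0 3 *
  xc (en u 1 3) 1 3 * xc (en u 0 2) 0 2 * xc (en u 1 2) 1 2

theorem U1_of {u : N2} (h : u = uf u) : u ∈ U1 := by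
  have k : ∀ j, 2 ≤ j → xe 0 j ∈ U1 ∧ xe 1 j ∈ U1 := by decide +kernel
  rw [h]
  exact mul_mem (mul_mem (mul_mem (mul_mem (mul_mem (xcm (k 4 (by decide)).1 _)
    (xcm (k 4 (by decide)).2 _)) (xcm (k 3 (by decide)).1 _)) (xcm (k 3 (by decide)).2 _))
    (xcm (k 2 (by decide)).1 _)) (xcm (k 2 (by decide)).2 _)

theorem fvU (h2 : Mod2) (e : N2) (he : e ∈ FF) (v : N2) (hv : v ∈ VV) :
    e * v * e⁻¹ * v⁻¹ ∈ U1 := by
  let K : Subgroup N2 :=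
    { carrier := {e | e ∈ FF ∧ e * v * e⁻¹ * v⁻¹ ∈ U1}
      one_mem' := ⟨one_mem _, by simp⟩
      mul_mem' := fun {a b} ha hb => ⟨mul_mem ha.1 hb.1, by
        have c := (h2.ab.2.1 a ha.1 _ hb.2.2).eq
        have : a * b * v * (a * b)⁻¹ * v⁻¹ = b * v * b⁻¹ * v⁻¹ * (a * v * a⁻¹ * v⁻¹) := by
          calc _ = a * (b * v * b⁻¹ * v⁻¹) * (v * a⁻¹ * v⁻¹) := by group
            _ = _ := by rw [c]; group
        rw [this]
        exact mul_mem hb.2 ha.2⟩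
      inv_mem' := fun {a} ha => by
        rw [inv_eq_of_mul_eq_one_right (h2.ab.2.2.2.2.1 a ha.1)]
        exact ha }
  refine (h2.gFF K (fun i k => ⟨wbF i k, ?_⟩) he).2
  rcases h2.lVV v hv with rfl | rfl | rfl | rfl
  · simp
  all_goals
    refine U1_of ?_
    revert i k
    decide +kernel

theorem od {s : P} (hs : s ≠ 0) (f : P → ZMod 2) (d : ZMod 2) (h : ∀ p, f p + f (x s p) = d) :
    ∑ p, f p = 0 := by
  have k : ∀ s : P, s ≠ 0 → ∃ q r : P, (Finset.univ : Finset P).val =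
      {0, x s 0, q, x s q, r, x s r, q ^^^ r, x s (q ^^^ r)} := by decide +kernel
  obtain ⟨q, r, e⟩ := k s hs
  rw [Finset.sum_eq_multiset_sum, e]
  simp only [Multiset.insert_eq_cons, Multiset.map_cons, Multiset.sum_cons, Multiset.map_singleton,
    Multiset.sum_singleton]
  have h0 := h 0
  have h1 := h q
  have h2 := h r
  have h3 := h (q ^^^ r)
  grind

theorem odd (a : N2) (ha : a ∈ AA) (h1 : a ≠ 1) (h2 : a ≠ z2) (e : N2) (he : e ∈ PP)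
    (h : a * e * a⁻¹ * e = 1 ∨ a * e * a⁻¹ * e = z2) : e ∈ EE := by
  revert h1 h2 h
  refine AA_ind (Q := fun a => a ≠ 1 → a ≠ z2 → (a * e * a⁻¹ * e = 1 ∨ a * e * a⁻¹ * e = z2) →
    e ∈ EE) (fun s c h1 h2 h => ?_) ha
  have hs : s ≠ 0 := by
    rintro rfl
    clear h
    revert c
    decide +kernel
  have e1 : e.σ = 1 := he
  have k : ∀ p, ((⟨x s, fun _ => c⟩ : N2) * e * (⟨x s, fun _ => c⟩ : N2)⁻¹ * e).f p =
      e.f p + e.f (x s p) := fun p => by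
    simp only [N2.mul_f, N2.inv_f, N2.inv_σ, e1, Perm.one_apply]
    change e.f p + (c + (e.f (x s p) + c)) = _
    grind
  rcases h with h | h
  · exact ⟨he, od hs e.f 0 fun p => by rw [← k, h]; rfl⟩
  · exact ⟨he, od hs e.f 1 fun p => by rw [← k, h]; rfl⟩

theorem ch_mul (l : Fin 3 → ZMod 2) (e : N2) {e' : N2} (h : e' ∈ PP) :
    ch l (e * e') = ch l e + ch l e' := by
  have k : ∀ a, cf a (e * e') = cf a e + cf a e' := fun a => by
    have h' : e'.σ = 1 := h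
    simp only [cf, N2.mul_f, h', Perm.one_apply, ← Finset.sum_add_distrib]
    refine Finset.sum_congr rfl fun p _ => ?_
    split_ifs
    · rw [add_zero]
    · rw [add_comm]
  simp only [ch, k]
  ring

/-- the elements on which two additive functions agree -/
def KK (h2 : Mod2) (χ ψ : N2 → ZMod 2) (h : ∀ e ∈ EE, ∀ e' ∈ EE, χ (e * e') = χ e + χ e')
    (k : ∀ e ∈ EE, ∀ e' ∈ EE, ψ (e * e') = ψ e + ψ e') : Subgroup N2 where
  carrier := {e | e ∈ EE ∧ χ e = ψ e}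
  one_mem' := ⟨one_mem _, by
    have a := h 1 (one_mem _) 1 (one_mem _)
    have b := k 1 (one_mem _) 1 (one_mem _)
    rw [mul_one, z2add] at a b
    rw [a, b]⟩
  mul_mem' := fun {a b} ha hb => ⟨mul_mem ha.1 hb.1, by
    rw [h a ha.1 b hb.1, k a ha.1 b hb.1, ha.2, hb.2]⟩
  inv_mem' := fun {a} ha => by
    rw [inv_eq_of_mul_eq_one_right (h2.ab.2.2.2.1 a ha.1.1)]
    exact ha

theorem chm (h2 : Mod2) (l : Fin 3 → ZMod 2) :
    (∀ e ∈ EE, ∀ e' ∈ EE, ch l (e * e') = ch l e + ch l e') ∧ ∀ b ∈ AP, ch l b = 0 := by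
  have k : ∀ e ∈ EE, ∀ e' ∈ EE, ch l (e * e') = ch l e + ch l e' := fun e _ _ h => ch_mul l e h.1
  refine ⟨k, fun b hb => (h2.gAP (KK h2 (ch l) (fun _ => 0) k fun _ _ _ _ => rfl) (fun j => ?_) hb).2⟩
  change xe 0 j ∈ EE ∧ l 0 * cf 0 (xe 0 j) + l 1 * cf 1 (xe 0 j) + l 2 * cf 2 (xe 0 j) = 0
  generalize l 0 = a
  generalize l 1 = b
  generalize l 2 = c
  revert j a b c
  decide +kernel

theorem chs (h2 : Mod2) (χ : N2 → ZMod 2) (h : ∀ e ∈ EE, ∀ e' ∈ EE, χ (e * e') = χ e + χ e')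
    (h0 : ∀ b ∈ AP, χ b = 0) : ∃ l, ∀ e ∈ EE, χ e = ch l e := by
  let l : Fin 3 → ZMod 2 := ![χ (dl 6 * dl 7), χ (dl 5 * dl 7), χ (dl 3 * dl 7)]
  let K := KK h2 χ (ch l) h (chm h2 l).1
  have a : AP ≤ K := fun b hb => ⟨h2.le.1 hb, (h0 b hb).trans ((chm h2 l).2 b hb).symm⟩
  have v : ∀ a b c : ZMod 2, ch ![a, b, c] (dl 6 * dl 7) = a ∧ ch ![a, b, c] (dl 5 * dl 7) = b ∧
      ch ![a, b, c] (dl 3 * dl 7) = c := by decide +kernel
  have g0 : dl 6 * dl 7 ∈ K := ⟨by decide +kernel, (v _ _ _).1.symm⟩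
  have g1 : dl 5 * dl 7 ∈ K := ⟨by decide +kernel, (v _ _ _).2.1.symm⟩
  have g2 : dl 3 * dl 7 ∈ K := ⟨by decide +kernel, (v _ _ _).2.2.symm⟩
  have k : ∀ p q, ∃ i j m : Bool, (fun u => u = af u) (dl p * dl q * (cond i (dl 6 * dl 7) 1 *
      cond j (dl 5 * dl 7) 1 * cond m (dl 3 * dl 7) 1)) := by
    dsimp only
    decide +kernel
  refine ⟨l, fun e he => (h2.gEE K (fun p q => ?_) he).2⟩
  obtain ⟨i, j, m, e⟩ := k p q
  refine (mul_mem_cancel_right (mul_mem (mul_mem ?_ ?_) ?_)).1 (a (AP_of e))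
  · cases i; exacts [one_mem _, g0]
  · cases j; exacts [one_mem _, g1]
  · cases m; exacts [one_mem _, g2]

end Cfsg.Agent.H17.Kn.M3a
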