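import Cfsg.Agent.H95.ParBase

/-! The singular case for the third Janko group. -/

set_option autoImplicit false

namespace Cfsg.Agent.H95.Par

open Cfsg Subgroup Cfsg.Agent.H48 Cfsg.Agent.H48.Rec Cfsg.Agent.H49
open Cfsg.Agent.H97.Gr (DD ZZ)
open Cfsg.Agent.H97.Yt (M)
open scoped commutatorElement symmDiff

theorem card_twelve {c : Finset GolayPt} (hc : IsWord c) {v : Lam} (hv : ∀ i, v.1 i % 2 = 1)
    (h : ¬ 32 ∣ sqNorm (v + signEl c hc • v).1) : c.card = 12 := by
  have k : 32 ∣ sqNorm (v + signEl c hc • v).1 - ∑ i, if i ∈ cᶜ then (4 : ℤ) else 0 := by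
    rw [sqNorm, ← Finset.sum_sub_distrib]
    refine Finset.dvd_sum fun i _ => ?_
    rw [AddSubgroup.coe_add, Pi.add_apply, signEl_apply]
    by_cases hi : i ∈ c
    · simp [hi]
    · rw [if_neg hi, if_pos (Finset.mem_compl.2 hi)]
      obtain ⟨n, e⟩ : ∃ n, v.1 i = 2 * n + 1 := ⟨v.1 i / 2, by have := hv i; omega⟩
      obtain ⟨m, e'⟩ := Int.even_mul_succ_self n
      exact ⟨m, by rw [e]; linear_combination 16 * e'⟩
  rw [Finset.sum_ite_mem, Finset.univ_inter, Finset.sum_const, nsmul_eq_mul] at k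
  have := H10.CoI.card_compl' c
  rcases hc.card_cases with e | e | e | e | e <;> omega

theorem card_sd (c d : Finset GolayPt) : (c ∆ d).card + (c ∩ d).card = (c ∪ d).card :=
  (Finset.card_union_of_disjoint (disjoint_symmDiff_inf c d)).symm.trans
    (congrArg _ (symmDiff_sup_inf c d))

theorem no_six {c d : Finset GolayPt} (hc : IsWord c) (hd : IsWord d) {v : Lam}
    (hv : ∀ i, v.1 i % 2 = 1) (h1 : c.card = 12) (h2 : d.card = 12) (h3 : (c ∆ d).card = 12)
    {x : Lam} (hx : x = 0 ∨ x = e8 none)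
    (h : cong x (v + signEl c hc • v + signEl d hd • (v + signEl c hc • v))) : False := by
  obtain ⟨u, e⟩ := h
  have k : cls u.1 2 = (c ∪ d)ᶜ := by
    ext i
    have e1 := congrArg (fun w : Lam => w.1 i) e
    have e2 : x.1 i = 0 ∨ x.1 i = 8 := by
      rcases hx with rfl | rfl
      · exact .inl rfl
      · rw [e8_apply]; split_ifs <;> simp
    have := hv i
    simp only [AddSubgroup.coe_add, Pi.add_apply, signEl_apply] at e1
    rw [mem_cls, Finset.mem_compl, Finset.mem_union]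
    by_cases a : i ∈ c <;> by_cases b : i ∈ d <;> simp only [a, b, if_true, if_false] at e1 <;>
      simp only [a, b, or_true, true_or, or_self, not_true, not_false_iff, iff_true, iff_false] <;>
      omega
  have w := isWord_cls u.2 2
  rw [k] at w
  have e1 := H10.CoI.card_compl' (c ∪ d)
  have e2 := Finset.card_union_add_card_inter c d
  have e3 := card_sd c d
  rcases w.card_cases with e | e | e | e | e <;> omega

theorem closure_le_Qz {z x : M} (hz : z ∈ ZZ) (hx : x ∈ Qz z) :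
    closure {g | ∃ c, c * z = z * c ∧ g = c * x * c⁻¹} ≤ Qz z :=
  (closure_le _).2 fun _ ⟨_, hc, e⟩ => e ▸ (lx hz).conj_mem hc hx

theorem aStmt : AStmt := by
  intro D sZ rQ
  have rZ : D.r ∈ ZZ := D.ys ▸ ZZ_cj _ sZ
  obtain ⟨θ, R, h, r⟩ := exists_ms sZ rZ rQ D.rs
  have ms := Ch.ms h r
  have sQ := sym sZ rZ rQ
  obtain ⟨v, rv⟩ := h.ex1 _ (closure_le_Qz sZ rQ D.τc)
  have hv : ∀ i, v.1 i % 2 = 1 := fun i => by
    have : ¬ 16 ∣ dotInt v.1 (e8 none).1 := fun k => by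
      have e := D.τr
      rw [(h.comm_iff rv r).2 k, mul_inv_cancel_right] at e
      exact h.hQ.mul_z_ne _ e.symm
    rw [dot_e8] at this
    have := parity_eq v.2 i none
    omega
  have sg : ∀ x ∈ Qz D.r, x ∈ D.O → ∃ c hc, Ass θ (signEl c hc) x := fun x k hx => by
    obtain ⟨g, a⟩ := exists_ass (θ := θ) (D.os x hx)
    have : g ∈ Signs := by
      rw [← h.pull_eq_Signs ms.p r]
      exact mem_pull.2 ⟨x, ⟨k, a.mem⟩, a⟩
    obtain ⟨c, hc, rfl⟩ := this
    exact ⟨c, hc, a⟩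
  have cm : ∀ {t x : M} {w : Lam} {g : Co0}, R w t → Ass θ g x → R (w + g • w) ⁅t, x⁆ :=
    fun {t x w g} a b => by
      have := h.mul a (h.act' b (h.inv a))
      rwa [← mul_assoc, ← mul_assoc] at this
  have tw : ∀ {x : M} {c} {hc : IsWord c}, Ass θ (signEl c hc) x → ⁅D.τ, x⁆ * ⁅D.τ, x⁆ = D.s →
      c.card = 12 := fun a e => card_twelve _ hv fun k => D.s1 (e ▸ (h.sq_iff (cm rv a)).2 k)
  obtain ⟨c, hc, a⟩ := sg _ (closure_le_Qz rZ sQ D.x1c) D.x1O
  obtain ⟨d, hd, b⟩ := sg _ (closure_le_Qz rZ sQ D.x2c) D.x2O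
  have ab := a.mul b
  rw [signEl_mul] at ab
  have r4 := cm (cm rv a) b
  have r0 := h.zero_one
  rcases ms.p.four.mem_closure.1 D.c4 with e | e | e | e
  · exact no_six hc hd hv (tw a D.c1) (tw b D.c2) (tw ab D.c3) (.inl rfl)
      ((h.uniq r0 r4).2 (.inl e))
  · exact no_six hc hd hv (tw a D.c1) (tw b D.c2) (tw ab D.c3) (.inl rfl)
      ((h.uniq r0 r4).2 (.inr (by rw [e, one_mul])))
  · exact no_six hc hd hv (tw a D.c1) (tw b D.c2) (tw ab D.c3) (.inr rfl)
      ((h.uniq r r4).2 (.inl e))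
  · exact no_six hc hd hv (tw a D.c1) (tw b D.c2) (tw ab D.c3) (.inr rfl)
      ((h.uniq r r4).2 (.inr (by rw [e, ms.p.four.comm])))

end Cfsg.Agent.H95.Par
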