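import Cfsg.Agent.H95.ParBase
import Cfsg.Agent.H97.YtMain
import Cfsg.Agent.S1702
import Cfsg.Agent.S1703
import Cfsg.Agent.S1705

/-! Assembly: five sporadic groups are not involved in the Monster. -/

set_option autoImplicit false

namespace Cfsg.Agent.H95.Par

open Cfsg Subgroup Cfsg.Agent.H48 Cfsg.Agent.H48.Rec Cfsg.Agent.H49
open Cfsg.Agent.H97.Gr (DD ZZ)
open Cfsg.Agent.H97.Yt (M)

/-- an element of odd order has a lift of odd order -/
theorem lift_odd {G : Type*} [Group G] {Q : Subgroup G} {z : G}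
    {θ : centralizer ({z} : Set G) →* Spor.Co1} {R : Lam → G → Prop} (h : MD Q z θ R) {y : G}
    (hz : y * z = z * y) {n : ℕ} (hn : Odd n) (yn : y ^ n = 1) : ∃ g, Ass θ g y ∧ g ^ n = 1 := by
  obtain ⟨g, a⟩ := exists_ass (θ := θ) hz
  have c := (h.ass_mem_iff (a.pow n)).1 (by rw [yn]; exact one_mem _)
  rcases mem_center_Co0.1 c with e | e
  · exact ⟨g, a, e⟩
  · refine ⟨g * negEl, by simpa using a.mul (ass_center negEl_mem_center), ?_⟩
    rw [Commute.mul_pow (negEl_comm g), e, negEl_pow_odd hn, negEl_mul_self]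

theorem r_of (hN : NegStmt) (h13 : L13Stmt) (hI : InvStmt) : RStmt := by
  refine ⟨fun D => ?_⟩
  have hz := mem_ZZ_of_order D.tt D.t1 D.hm
  obtain ⟨θ, R, h⟩ := chart hz
  have w13 : D.w ^ 13 = 1 := by rw [← D.ow]; exact pow_orderOf_eq_one _
  have wo : Odd (orderOf D.w) := by rw [D.ow]; decide
  obtain ⟨g, a, g13⟩ := lift_odd h D.wt (by decide : Odd 13) w13
  have g1 : g ≠ 1 := by
    rintro rfl
    have hQ := (h.ass_mem_iff a).2 (one_mem _)
    have h2 : D.w ^ 4 = 1 := by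
      have : D.w ^ 4 = D.w * D.w * (D.w * D.w) := by simp only [pow_succ, pow_zero, one_mul, mul_assoc]
      rw [this]
      rcases h.hQ.sq hQ with e | e <;> rw [e]
      · exact one_mul _
      · exact D.tt
    have := orderOf_dvd_of_pow_eq_one h2
    rw [D.ow] at this
    omega
  have : Fact (Nat.Prime 13) := ⟨by norm_num⟩
  have og : orderOf g = 13 := orderOf_eq_prime g13 g1
  have F := h13 g og
  have nQ : D.t' ∉ Qz D.t := fun hQ => by
    obtain ⟨v, r⟩ := h.ex1 _ hQ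
    rcases (h.zero_iff r).1 (F v ((h.comm_iff_fix wo a r).1 D.wt'.symm)) with e | e
    · exact D.t'1 e
    · exact D.ne e
  obtain ⟨k, b⟩ := exists_ass (θ := θ) D.cm
  refine nQ ((h.ass_mem_iff b).2 (hI g k (Or.inr og) F (hN _ _ _ h k _ b D.tt') ?_))
  obtain ⟨_, e1⟩ := b.mul a
  obtain ⟨_, e2⟩ := a.mul b
  rw [← map_mul, ← map_mul]
  exact e1.trans ((congrArg θ (Subtype.ext D.wt'.symm)).trans e2.symm)

theorem j_of (hN : NegStmt) (hA : AStmt) (hB : BStmt) (hC : C2Stmt) : IsEmpty (JD M) := by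
  refine ⟨fun D => ?_⟩
  have hz := mem_ZZ_of_order D.ss D.s1 D.hm
  obtain ⟨θ, R, h⟩ := chart hz
  have rr : D.r * D.r = 1 := by
    rw [← D.ys]
    calc _ = D.y * (D.s * D.s) * D.y⁻¹ := by group
      _ = 1 := by rw [D.ss]; group
  obtain ⟨g, a⟩ := exists_ass (θ := θ) (D.os _ D.rO)
  rcases H74.Ms.twist_cases h a (hN _ _ _ h g _ a rr) with hQ | ⟨θ', R', h', b | b⟩
  · exact hA D hz hQ
  · exact hB D θ' R' h' b
  · exact hC D θ' R' h' b

/-- transport along an injective homomorphism -/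
def RD.map {X G : Type} [Group X] [Group G] (D : RD X) (f : X →* G) (hf : Function.Injective f) :
    RD G where
  t := f D.t
  t' := f D.t'
  w := f D.w
  m := f D.m
  tt := by rw [← map_mul, D.tt, map_one]
  t1 := fun e => D.t1 (hf (e.trans (map_one f).symm))
  tt' := by rw [← map_mul, D.tt', map_one]
  t'1 := fun e => D.t'1 (hf (e.trans (map_one f).symm))
  ne := fun e => D.ne (hf e)
  cm := by rw [← map_mul, ← map_mul, D.cm]
  ow := by rw [orderOf_injective f hf, D.ow]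
  wt := by rw [← map_mul, ← map_mul, D.wt]
  wt' := by rw [← map_mul, ← map_mul, D.wt']
  hm := by
    rw [← map_inv, ← map_mul, ← map_mul, ← map_mul, orderOf_injective f hf]
    exact D.hm

theorem card_sec {Γ : Type} [Group Γ] (A : Subgroup Γ) (B : Subgroup A) [B.Normal] :
    Nat.card (A ⧸ B) ∣ Nat.card Γ :=
  (card_quotient_dvd_card B).trans (card_subgroup_dvd_card A)

theorem fin_of (hJ : IsEmpty (JD M)) (hO : OStmt) (hR : RStmt) (k0 : Kit0Stmt) (rj : RedJStmt)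
    (ro : RedOStmt) (rr : RedRStmt) (jx : JXStmt) (ox : OXStmt) (rx : RXStmt) (jl : JLStmt)
    (ol : OLStmt) (A : Subgroup Spor.Monster) (B : Subgroup A) [B.Normal] :
    ¬ Spor.IsoLy (A ⧸ B) ∧ ¬ Spor.IsoJ4 (A ⧸ B) ∧ ¬ Spor.IsoJ3 (A ⧸ B) ∧ ¬ Spor.IsoON (A ⧸ B) ∧
      ¬ Spor.IsoRu (A ⧸ B) := by
  have cM := S1705.result.2
  have : Finite Spor.Monster := Nat.finite_of_card_ne_zero (by rw [cM]; norm_num)
  obtain ⟨φ⟩ := H97.Yt.mEquiv
  have inj : ∀ H : Subgroup Spor.Monster, Function.Injective (φ.toMonoidHom.comp H.subtype) :=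
    fun H => φ.injective.comp H.subtype_injective
  have d := card_sec A B
  refine ⟨fun ⟨e⟩ => ?_, fun ⟨e⟩ => ?_, fun ⟨F, _, _, ω, hF, hω, e⟩ => ?_, fun e => ?_, fun e => ?_⟩
  · rw [Nat.card_congr e.toEquiv, S1702.result.2, cM] at d
    norm_num at d
  · rw [Nat.card_congr e.toEquiv, S1703.result.2, cM] at d
    norm_num at d
  · obtain ⟨H, π, m⟩ := k0 _ _ A B e
    obtain ⟨c, c3⟩ := rj F ω hF hω H π m
    obtain ⟨D, ι, hι⟩ := jx F ω hF hω
    obtain ⟨D'⟩ := jl _ _ _ π _ m.surj c c3 (inj H) D ι hι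
    exact hJ.false D'
  · obtain ⟨H, π, m⟩ := k0 _ _ A B e
    obtain ⟨x, hk, c, c3⟩ := ro H π m
    obtain ⟨D⟩ := ox
    obtain ⟨D'⟩ := ol _ _ _ π _ x m.surj hk c c3 (inj H) D
    exact (hO _).false D'
  · obtain ⟨H, π, m⟩ := k0 _ _ A B e
    obtain ⟨D⟩ := rx
    let ψ := MulEquiv.ofBijective π ⟨rr H π m, m.surj⟩
    exact hR.false (D.map ((φ.toMonoidHom.comp H.subtype).comp ψ.symm.toMonoidHom)
      ((inj H).comp ψ.symm.injective))

end Cfsg.Agent.H95.Par
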