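import Cfsg.Agent.H95.ParTheta
import Cfsg.Agent.H95.ParA
import Cfsg.Agent.H95.ParFin

/-! The octad case for the third Janko group. -/

set_option autoImplicit false

namespace Cfsg.Agent.H95.Par

open Cfsg Subgroup Cfsg.Agent.H48 Cfsg.Agent.H48.Rec Cfsg.Agent.H49 Cfsg.Agent.H74.Mon
open Cfsg.Agent.H97.Gr (DD ZZ)
open Cfsg.Agent.H97.Yt (M)
open scoped symmDiff

theorem ass_mk1 {G : Type*} [Group G] {z : G} {θ : centralizer ({z} : Set G) →* Spor.Co1}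
    {g g' : Co0} {y : G} (a : Ass θ g y) (b : Ass θ g' y) : mk1 g = mk1 g' :=
  a.2.trans b.2.symm

theorem exists_fix_three {G : Type*} [Group G] {T : Set G} (hT : T.ncard = 16) {y : G}
    (y3 : y ^ 3 = 1) (h : ∀ w ∈ T, y * w * y⁻¹ ∈ T) : ∃ w ∈ T, y * w = w * y := by
  have fin : T.Finite := Set.finite_of_ncard_ne_zero (by omega)
  have := fin.fintype
  let f : T → T := fun w => ⟨_, h w.1 w.2⟩
  have f3 : ∀ w, f (f (f w)) = w := fun w => Subtype.ext (by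
    calc y * (y * (y * w.1 * y⁻¹) * y⁻¹) * y⁻¹ = y ^ 3 * w.1 * (y ^ 3)⁻¹ := by
          simp only [pow_succ, pow_zero, one_mul]; group
      _ = w.1 := by rw [y3]; group)
  let σ : Equiv.Perm T := ⟨f, fun w => f (f w), f3, f3⟩
  have : Fact (Nat.Prime 3) := ⟨by norm_num⟩
  obtain ⟨w, hw⟩ := Equiv.Perm.exists_fixed_point_of_prime (p := 3) (n := 1) (σ := σ) (by
    rw [← Nat.card_eq_fintype_card, Nat.card_coe_set_eq, hT]; norm_num) (Equiv.ext f3)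
  exact ⟨w, w.2, mul_inv_eq_iff_eq_mul.1 (congrArg Subtype.val hw)⟩

variable {z : M} {θ : Th z} {R : Lam → M → Prop}

theorem mem_signs (h : Ch z θ R) {x t : M} {v : Lam} (rv : R v x) (nv : sqNorm v.1 = 64) {k g : Co0}
    (hk : k • v = e8 none) (ht : t ∈ Qz x) (a : Ass θ g t) : k * g * k⁻¹ ∈ Signs := by
  obtain ⟨xZ, ne⟩ := Ch.t4 h rv nv
  rw [← (h.twist k).pull_eq_Signs (pair h.zz xZ (h.mem rv) ne)
    (by rw [← hk, inv_smul_smul]; exact rv)]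
  exact mem_pull.2 ⟨t, ⟨ht, a.mem⟩, a.twist k⟩

theorem conj_z0 (h : Ch z θ R) {t : M} (tZ : t ∈ ZZ) (hD : z * t ∈ DD) {g : Co0} (a : Ass θ g t) :
    IsConj z0 (mk1 g) := by
  refine out _ _ _ h g _ (by simpa using (h.ass_one h.hQ.mem).mul a) hD fun k => ?_
  have tQ := (mul_mem_cancel_left h.hQ.mem).1 k
  by_cases e : t = z
  · rw [e, h.hQ.zz] at hD
    obtain ⟨v, rv, nv⟩ := Ch.of_DD h hD (one_mem _)
    exact h.not_cong_zero (v := v) (by omega) (by omega) ((h.zero_iff rv).2 (.inl rfl))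
  · obtain ⟨v, rv, nv⟩ := Ch.of_ZZ h tZ tQ e
    exact disj hD (a.comm ▸ (Ch.t4 h (h.cls rv) nv).1)

theorem exists_oct (h : Ch z θ R) {x t : M} (rx : R (e8 none) x) (tZ : t ∈ ZZ) (hD : z * t ∈ DD)
    (ht : t ∈ Qz x) : ∃ c hc, c.card = 8 ∧ Ass θ (signEl c hc) t := by
  obtain ⟨g, a⟩ := exists_ass (θ := θ) (comm_of_sq h.hQ.zz (ZZ_sq tZ) (DD_sq hD)).symm
  have := mem_signs h rx (sqNorm_e8 _) (one_smul _ _) ht a
  rw [one_mul, inv_one, mul_one] at this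
  obtain ⟨c, hc, rfl⟩ := this
  rcases (H10.CoI.conj_z0_iff hc).1 (conj_z0 h tZ hD a) with e | e
  · exact ⟨c, hc, e, a⟩
  · exact ⟨_, hc.compl, by have := H10.CoI.card_compl' c; omega,
      ass_of_eq a (H10.CoI.mk1_compl c hc)⟩

theorem theta_pair {s r w w' : M} (sZ : s ∈ ZZ) (rZ : r ∈ ZZ) (rs : r * s = s * r)
    (hw : w ∈ Theta s r) (hw' : w' ∈ Theta s r) (xZ : w * w' ∈ ZZ) :
    s ∈ Qz (w * w') ∧ r ∈ Qz (w * w') ∧ w * w' ∈ Qz w := by
  have ss := ZZ_sq sZ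
  have rr := ZZ_sq rZ
  have key : ∀ w ∈ Theta s r, w * s = s * w ∧ w * r = r * w ∧ w * r ∈ Qz s ∧ w * s ∈ Qz r := by
    rintro w ⟨wZ, h1, h2, h3⟩
    have ws := comm_of_sq (ZZ_sq wZ) ss (DD_sq h1)
    have wr := comm_of_sq (ZZ_sq wZ) rr (DD_sq h2)
    exact ⟨ws, wr, cl sZ h2 (by rwa [← mul_assoc, ← ws, mul_assoc, ← rs]),
      cl rZ h1 (by rwa [← mul_assoc, ← wr, mul_assoc])⟩
  obtain ⟨-, -, a3, a4⟩ := key w hw
  obtain ⟨b1, b2, b3, b4⟩ := key w' hw'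
  have k1 := mul_mem a3 b3
  have k2 := mul_mem a4 b4
  rw [b2, mul_assoc, ← mul_assoc r, rr, one_mul] at k1
  rw [b1, mul_assoc, ← mul_assoc s, ss, one_mul] at k2
  have rQ := sym rZ xZ k2
  have c := comm_of_sq (ZZ_sq hw.1) (ZZ_sq hw'.1) (ZZ_sq xZ)
  have u := mul_mem (cl xZ hw.2.2.1 (by
    rw [c, mul_assoc, ← mul_assoc w, ZZ_sq hw.1, one_mul]; exact hw'.2.2.1)) rQ
  rw [mul_assoc, rr, mul_one] at u
  exact ⟨sym sZ xZ k1, rQ, sym xZ hw.1 u⟩

theorem bStmt (hΘ : ThetaStmt) (hS : SextStmt) (hT : TrioStmt) (hH : ThStmt) : BStmt := by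
  intro D θ R h a
  have sZ := h.zz
  have rZ : D.r ∈ ZZ := D.ys ▸ ZZ_cj _ sZ
  have tZ : D.r * D.s ∈ ZZ := D.yr ▸ ZZ_cj _ rZ
  have rs := a.comm
  have yt : D.y * (D.r * D.s) * D.y⁻¹ = D.s := by
    rw [← conj_mul, D.ys, D.yr, rs, mul_assoc, ZZ_sq rZ, mul_one]
  obtain ⟨c16, pz⟩ := hΘ _ _ θ R h rZ tZ a
  obtain ⟨w, hw, yw⟩ := exists_fix_three c16 D.y3 fun w ⟨h0, h1, h2, h3⟩ =>
    ⟨ZZ_cj _ h0, by have := DD_cj D.y h3; rwa [← conj_mul, yt] at this,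
      by have := DD_cj D.y h1; rwa [← conj_mul, D.ys] at this,
      by have := DD_cj D.y h2; rwa [← conj_mul, D.yr] at this⟩
  have ww := ZZ_sq hw.1
  have ne : ∀ w' ∈ Theta D.s D.r, w * w' ≠ w := fun w' k e => ZZ_ne k.1 (by simpa using e)
  obtain ⟨w1, hw1, n1⟩ := Set.exists_ne_of_one_lt_ncard (s := Theta D.s D.r) (by omega) w
  have x1Z := pz w hw w1 hw1 n1.symm
  obtain ⟨s1, r1, q1⟩ := theta_pair sZ rZ rs hw hw1 x1Z
  obtain ⟨θ', R', h', rx⟩ := exists_ms hw.1 x1Z q1 (ne _ hw1)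
  obtain ⟨c, hc, c8, ac⟩ := exists_oct h' rx sZ hw.2.1 s1
  obtain ⟨d, hd, d8, ad⟩ := exists_oct h' rx rZ hw.2.2.1 r1
  have acd := ac.mul ad
  rw [signEl_mul, ← rs] at acd
  have k1 := (H10.CoI.conj_z0_iff _).1 (conj_z0 h' tZ hw.2.2.2 acd)
  have k2 := card_sd c d
  have k3 := Finset.card_union_add_card_inter c d
  rcases k1 with k1 | k1
  · obtain ⟨v1, v2, v3, hv⟩ := hS c d hc hd c8 d8 (by omega)
    obtain ⟨a1, r1⟩ := h'.ex2 v1
    obtain ⟨a2, r2⟩ := h'.ex2 v2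
    obtain ⟨a3, r3⟩ := h'.ex2 v3
    have le : Theta D.s D.r ⊆ {w, w * a1, w * (a1 * w), w * a2, w * (a2 * w), w * a3,
        w * (a3 * w)} := fun w' hw' => by
      by_cases e : w = w'
      · exact .inl e.symm
      have xZ := pz w hw w' hw' e
      obtain ⟨s', r', q'⟩ := theta_pair sZ rZ rs hw hw' xZ
      obtain ⟨v, rv, nv⟩ := Ch.of_ZZ h' xZ q' (ne _ hw')
      obtain ⟨k, hk⟩ := trans64 nv (sqNorm_e8 none)
      have := hv k (mem_signs h' rv nv hk s' ac) (mem_signs h' rv nv hk r' ad)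
      rw [← hk, inv_smul_smul] at this
      have e' : w' = w * (w * w') := by rw [← mul_assoc, ww, one_mul]
      rw [e']
      rcases this with k | k | k
      · rcases (h'.uniq r1 rv).1 k with e | e <;> rw [e] <;> simp
      · rcases (h'.uniq r2 rv).1 k with e | e <;> rw [e] <;> simp
      · rcases (h'.uniq r3 rv).1 k with e | e <;> rw [e] <;> simp
    have k4 := Set.ncard_le_ncard le
    rw [c16] at k4
    have k5 := fun (a : M) (s : Set M) => Set.ncard_insert_le a s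
    have := k5 w {w * a1, w * (a1 * w), w * a2, w * (a2 * w), w * a3, w * (a3 * w)}
    have := k5 (w * a1) {w * (a1 * w), w * a2, w * (a2 * w), w * a3, w * (a3 * w)}
    have := k5 (w * (a1 * w)) {w * a2, w * (a2 * w), w * a3, w * (a3 * w)}
    have := k5 (w * a2) {w * (a2 * w), w * a3, w * (a3 * w)}
    have := k5 (w * (a2 * w)) {w * a3, w * (a3 * w)}
    have := k5 (w * a3) {w * (a3 * w)}
    rw [Set.ncard_singleton] at this
    omega
  · have dj : Disjoint c d := Finset.disjoint_iff_inter_eq_empty.2 (Finset.card_eq_zero.1 (by omega))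
    have sd : c ∆ d = c ∪ d := dj.symmDiff_eq_sup
    have ae := ass_of_eq acd (H10.CoI.mk1_compl _ (hc.symmDiff hd))
    have e8' : (c ∆ d)ᶜ.card = 8 := by have := H10.CoI.card_compl' (c ∆ d); omega
    obtain ⟨g, ag, g3⟩ := lift_odd h' yw (by decide : Odd 3) D.y3
    have cj : ∀ {p q : Finset GolayPt} {hp : IsWord p} {hq : IsWord q} {t : M}, p.card = 8 →
        q.card = 8 → Ass θ' (signEl p hp) t → Ass θ' (signEl q hq) (D.y * t * D.y⁻¹) →
        g * signEl p hp * g⁻¹ = signEl q hq := fun p8 q8 a b =>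
      conj_eq_of_mk1 (ass_mk1 ((ag.mul a).mul ag.inv) b)
        (by rw [tr8_signEl, tr8_signEl, p8, q8]; norm_num)
    have k := hT c d _ hc hd (hc.symmDiff hd).compl g c8 d8 e8' dj
      (disjoint_compl_right.mono_left (sd ▸ Finset.subset_union_left))
      (disjoint_compl_right.mono_left (sd ▸ Finset.subset_union_right)) g3
      (cj c8 d8 ac (D.ys.symm ▸ ad)) (cj d8 e8' ad (D.yr.symm ▸ ae))
    obtain ⟨θ'', R'', h'', a''⟩ := tw_of_conj h' ag (mk1.map_isConj k)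
    have : Fact (Nat.Prime 3) := ⟨by norm_num⟩
    refine hH _ _ _ h'' _ a'' (orderOf_eq_prime D.y3 fun e => D.rs ?_) _ D.w3
    rw [← D.ys, e]; group

end Cfsg.Agent.H95.Par
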