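import Cfsg.Agent.H95.ParNeg

/-! The dodecad case: the invariant involution. -/

set_option autoImplicit false

namespace Cfsg.Agent.H95.Par

open Cfsg Subgroup Cfsg.Agent.H48 Cfsg.Agent.H48.Rec Cfsg.Agent.H49 Cfsg.Agent.H74.Mon
open Cfsg.Agent.H97.Gr (DD ZZ)
open Cfsg.Agent.H97.Yt (M)

variable {s : M} {θ : Th s} {R : Lam → M → Prop}

theorem ut_not_mem (h : Ch s θ R) {t : M} (a : Ass θ ut t) : t ∉ Qz s := fun k =>
  u0_ne_one ((QuotientGroup.eq_one_iff _).2 ((h.ass_mem_iff a).1 k))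

theorem exists_x (h : Ch s θ R) {r : M} (rr : r * r = 1) (a : Ass θ ut r) :
    ∃ x, R (e8 none) x ∧ r ∈ Qz x := by
  obtain ⟨x, rx⟩ := h.ex2 (e8 none)
  have p := (Ch.ms h rx).p
  have xZ := (Ch.t4 h rx (sqNorm_e8 _)).1
  obtain ⟨c, hc, v, h1, h2⟩ := meet_ut
  obtain ⟨k, hk, b, kk⟩ := exists_invol h p rx isWord_dod0 (meet_mem h p rx hc h1) h2
  obtain ⟨u, ru⟩ := h.ex1 _ (ass_sub h b a)
  obtain ⟨w, hw⟩ := dec_ut (fix_of_sq h b kk ru (by rwa [mul_inv_cancel_left]))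
  obtain ⟨q, rq⟩ := h.ex2 w
  have qQ := h.mem rq
  have r0 := h.mul (h.act' b (h.inv rq)) rq
  have e1 : k * (k * q⁻¹ * k⁻¹ * q) = q⁻¹ * k * q⁻¹⁻¹ := by
    rw [inv_eq_of_mul_eq_one_right kk]
    calc _ = (k * k) * q⁻¹ * k * q := by group
      _ = _ := by rw [kk]; group
  have r1 : R (e8 none) (q⁻¹ * x * q⁻¹⁻¹) := h.of_eq_or rx (h.hQ.conj (inv_mem qQ) p.xQ)
  have m : k * (k * q⁻¹ * k⁻¹ * q) ∈ Qz (q⁻¹ * x * q⁻¹⁻¹) := by
    rw [e1, Qz_cj xZ]; exact conj_mem_cj _ hk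
  rw [add_comm] at r0
  refine ⟨_, r1, ?_⟩
  rcases (h.uniq r0 ru).1 hw.symm with e | e <;> rw [inv_mul_eq_iff_eq_mul] at e <;> rw [e]
  · exact m
  · rw [← mul_assoc]
    exact mul_mem m (Ch.ms h r1).p.zS

theorem wv_shift {G : Type*} [Group G] {Q : Subgroup G} {z : G}
    {θ : centralizer ({z} : Set G) →* Spor.Co1} {R : Lam → G → Prop} (h : MD Q z θ R) {v : Lam}
    {r : G} {c : Rk.WG} (rv : R v r) (w : Rk.Wv c v) : ∃ v', R v' r ∧ Rk.Wv (c * Rk.om) v' :=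
  ⟨_, h.cg rv ⟨_, rfl⟩, w.add Rk.wv_vV⟩

theorem c1Stmt : C1Stmt := by
  intro s r θ R h rZ a
  have rr := ZZ_sq rZ
  have nQ := ut_not_mem h a
  obtain ⟨x, rx, rQ⟩ := exists_x h rr a
  have p := (Ch.ms h rx).p
  have xZ := (Ch.t4 h rx (sqNorm_e8 _)).1
  refine ⟨x, xZ, p.zS, rQ, fun x' xZ' s' r' => ?_, fun θ' R' h' rs => ?_⟩
  · have ne : x' ≠ s := fun e => nQ (e ▸ r')
    have xQ := sym xZ' h.zz s'
    obtain ⟨v, rv, nv⟩ := Ch.of_ZZ h xZ' xQ ne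
    obtain ⟨k, hk⟩ := trans64 nv (sqNorm_e8 none)
    have : k * ut * k⁻¹ ∈ Signs := by
      rw [← (h.twist k).pull_eq_Signs (pair h.zz xZ' xQ ne) (by rw [← hk, inv_smul_smul]; exact rv)]
      exact mem_pull.2 ⟨r, ⟨r', a.mem⟩, a.twist k⟩
    obtain ⟨d, hd, e⟩ := this
    have e' : mk1 k * u0 * (mk1 k)⁻¹ = mk1 (signEl d hd) := by rw [← e, map_mul, map_mul, map_inv]; rfl
    obtain ⟨τ, hτ⟩ := H10.CoI.perm_u0 hd (H10.CoI.card_of_u0 hd (isConj_iff.2 ⟨_, e'⟩))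
    have m : (permEl τ)⁻¹ * k ∈ Mono := H30.KCo.mem_mono_of_u0 (by
      rw [map_mul, map_inv]
      calc _ = (mk1 (permEl τ))⁻¹ * (mk1 k * u0 * (mk1 k)⁻¹) * mk1 k := by group
        _ = _ := by rw [e', ← hτ]; group)
    have m' : k⁻¹ ∈ Mono := inv_mem (by simpa using mul_mem (permEl_mem_mono τ) m)
    have c := cong_of_mem_mono m' none
    rw [← hk, inv_smul_smul, hk] at c
    refine ((h.uniq rx rv).1 c).resolve_right fun e => nQ ?_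
    obtain ⟨q, hq, e2⟩ := p.hS.exists_conj_eq_mul_z p.zS p.hQ.ne p.ne.symm
    rw [e, ← p.four.comm, ← e2, Qz_cj h.zz, mem_cj] at r'
    have := p.hS.conj (inv_mem hq) rQ
    rw [inv_inv] at this
    rcases this with e3 | e3 <;> rw [e3] at r'
    · exact r'
    · exact (mul_mem_cancel_right p.xQ).1 r'
  · have ms := Ch.ms h' rs
    have k0 : ∀ v c, R' v r → Rk.Wv c v → c.1.card ≠ 0 := fun v c rv w e => by
      obtain rfl : c = 1 := Subtype.ext (Finset.card_eq_zero.1 e)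
      exact nQ ((Rk.mem_E_iff ms).2 ⟨v, rv, w⟩).2
    have k8 : ∀ v c, R' v r → Rk.Wv c v → c.1.card ≠ 8 := fun v c rv w e => by
      obtain ⟨t, rt⟩ := h'.ex2 (twoInd c.1 c.2)
      have tD : t ∈ DD := Ch.t2 h' rt (by rw [sqNorm_twoInd, e]; rfl)
      have m := ((Rk.mem_E_iff ms).2 ⟨_, h'.mul rt rv, c.sq ▸ (Rk.wv_two c).add w⟩).2
      have b := (h.ass_one m).mul a
      rw [one_mul, mul_assoc, rr, mul_one] at b
      exact H10.CoI.not_conj_zu (out _ _ _ h _ _ b tD (ut_not_mem h b))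
    obtain ⟨v, rv⟩ := h'.ex1 r rQ
    obtain ⟨c, w⟩ := Rk.exists_wv_of_comm ms rv a.comm
    obtain ⟨v', rv', w'⟩ := wv_shift h' rv w
    refine ⟨v, c, rv, w, ?_⟩
    have := k0 _ _ rv w
    have := k8 _ _ rv w
    have := k0 _ _ rv' w'
    have := k8 _ _ rv' w'
    have := H10.CoI.card_compl' c.1
    rw [Rk.val_mul_om] at *
    rcases c.2.card_cases with e | e | e | e | e <;> omega

end Cfsg.Agent.H95.Par
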