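import Cfsg.Agent.H95.ParC1

/-! The dodecad case for the third Janko group. -/

set_option autoImplicit false

namespace Cfsg.Agent.H95.Par

open Cfsg Subgroup Cfsg.Agent.H48 Cfsg.Agent.H48.Rec Cfsg.Agent.H49 Cfsg.Agent.H74.Mon
open Cfsg.Agent.H97.Gr (DD ZZ)
open Cfsg.Agent.H97.Yt (M)
open scoped Pointwise commutatorElement symmDiff

theorem sub_dod {e c : Finset GolayPt} (he : IsWord e) (hc : IsWord c) (h : c.card = 12)
    (le : e ⊆ c) : e = ∅ ∨ e = c := by
  have := Finset.card_le_card le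
  rcases he.card_cases with k | k | k | k | k
  · exact .inl (Finset.card_eq_zero.1 k)
  · exact (H10.CoI.not_sub he hc k h le).elim
  · exact .inr (Finset.eq_of_subset_of_card_le le (by omega))
  all_goals omega

theorem not_fix_compl {c : Rk.WG} (hc : c.1.card = 12) {v : Lam} (w : Rk.Wv c v)
    (hv : 32 ∣ sqNorm v.1) : ¬ cong v (signEl c.1ᶜ c.2.compl • v) := by
  rintro ⟨u, e⟩
  have hu : ∀ i, u.1 i = if i ∈ c.1 then 0 else -v.1 i := fun i => by
    have b : (if i ∈ c.1ᶜ then -v.1 i else v.1 i) = v.1 i + (u.1 i + u.1 i) :=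
      congrFun (congrArg Subtype.val e) i
    by_cases p : i ∈ c.1 <;> simp only [Finset.mem_compl, p] at b ⊢ <;> simp at b ⊢ <;> omega
  have ev := (evenCond_of u.2 none (by
    have := w none
    rw [hu]
    split_ifs at this ⊢ <;> omega)).2.1
  have k : 32 ∣ sqNorm v.1 - (∑ i, if i ∈ c.1 then (4 : ℤ) else 0) + 4 * ∑ i, u.1 i := by
    rw [sqNorm, ← Finset.sum_sub_distrib, Finset.mul_sum, ← Finset.sum_add_distrib]
    refine Finset.dvd_sum fun i _ => ?_
    have := w i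
    rw [hu]
    split_ifs at this ⊢
    · obtain ⟨n, e⟩ := this
      obtain ⟨m, e'⟩ := Int.even_mul_succ_self n
      exact ⟨m, by rw [eq_add_of_sub_eq e]; linear_combination 16 * e'⟩
    · have := sq_mod_four_mul (v.1 i) (by omega)
      rwa [sub_zero, mul_neg]
  rw [Finset.sum_ite_mem, Finset.univ_inter, Finset.sum_const, nsmul_eq_mul, hc] at k
  omega

theorem sg_center_of_fix {c d : Rk.WG} (hc : c.1.card = 12) {v : Lam} (w : Rk.Wv c v)
    (hv : 32 ∣ sqNorm v.1) (e : cong v (Rk.sg d • v)) : Rk.sg d ∈ center Co0 := by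
  have w1 : IsWord (d.1 ∩ c.1) := by
    have := w.rel (δ := ∅) (u := 0) (c := d) (fun _ => rfl) (by rwa [add_zero])
    rwa [show (d.1 ∩ c.1) ∆ ∅ = d.1 ∩ c.1 from symmDiff_bot _] at this
  have w2 : IsWord (d.1 ∩ c.1ᶜ) := by
    convert d.2.symmDiff w1 using 1
    ext i
    simp only [Finset.mem_inter, Finset.mem_compl, Finset.mem_symmDiff]
    tauto
  have hc' : c.1ᶜ.card = 12 := by have := H10.CoI.card_compl' c.1; omega
  have u : d.1 = d.1 ∩ c.1 ∪ d.1 ∩ c.1ᶜ := by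
    rw [← Finset.inter_union_distrib_left, Finset.union_compl, Finset.inter_univ]
  rw [Rk.sg_center, Rk.mem_om]
  rcases sub_dod w1 c.2 hc Finset.inter_subset_right with e1 | e1 <;>
    rcases sub_dod w2 c.2.compl hc' Finset.inter_subset_right with e2 | e2 <;> rw [e1, e2] at u
  · exact .inl (Subtype.ext (u.trans (Finset.union_empty _)))
  · obtain rfl : d = ⟨_, c.2.compl⟩ := Subtype.ext (u.trans (Finset.empty_union _))
    exact (not_fix_compl hc w hv e).elim
  · obtain rfl : d = c := Subtype.ext (u.trans (Finset.union_empty _))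
    refine (not_fix_compl hc w hv ?_).elim
    rw [H10.CoI.sign_compl _ d.2, mul_smul, negEl_smul, co_neg]
    exact e.trans (cong_neg _)
  · exact .inr (Subtype.ext (u.trans (Finset.union_compl _)))

theorem comm_fix {α β : M24} {c : Rk.WG} (h1 : α⁻¹ • c = c ∨ α⁻¹ • c = c * Rk.om)
    (h2 : β⁻¹ • c = c ∨ β⁻¹ • c = c * Rk.om) : ⁅α, β⁆ • c = c := by
  have : α⁻¹ • β⁻¹ • c = β⁻¹ • α⁻¹ • c := by
    rcases h1 with a | a <;> rcases h2 with b | b <;> simp only [a, b, smul_mul', Rk.smul_om]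
  rw [commutatorElement_def, mul_smul, mul_smul, mul_smul, this, smul_inv_smul, smul_inv_smul]

theorem c2_gen (hM : M12RStmt) {G : Type} [Group G] [Finite G] (D : JD G) {Q : Subgroup G} {x : G}
    {θ : centralizer ({x} : Set G) →* Spor.Co1} {R : Lam → G → Prop} (h : MD Q x θ R)
    (f4 : Four D.s D.r) (rs : R (e8 none) D.s) {v : Lam} (rv : R v D.r) {c : Rk.WG}
    (w : Rk.Wv c v) (c12 : c.1.card = 12) (xW : x ∉ closure ({D.s, D.r} : Set G))
    (nx : ∀ n ∈ normalizer (closure ({D.s, D.r} : Set G) : Subgroup G), n * x = x * n) : False := by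
  have WQ : closure ({D.s, D.r} : Set G) ≤ Q := (closure_le _).2 (by
    rintro _ (rfl | rfl)
    exacts [h.mem rs, h.mem rv])
  have cx : ∀ k, k * D.s = D.s * k → k * D.r = D.r * k → k * x = x * k := fun k h1 h2 =>
    nx k (centralizer_le_normalizer _ (Four.mem_centralizer.2 ⟨h1, h2⟩))
  have OQ : ∀ o ∈ D.O, o ∈ Q → o ∈ closure ({D.s, D.r} : Set G) := fun o ho k => by
    by_contra hn
    obtain ⟨n, n1, n2, n3⟩ := D.irr o ho hn
    refine xW ((h.hQ.commutator_eq_z k (h.hQ.conj_mem (nx n n1) k)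
      fun e => n3 (commutatorElement_eq_one_iff_mul_comm.2 e)) ▸ ?_)
    exact commutator_mem_of_sq (R := D.O) (fun y hy => centralizer_le_normalizer _
      (Four.mem_centralizer.2 ⟨D.os y hy, D.or y hy⟩)) D.oo ho n2
  obtain ⟨π, hπ⟩ := h.exists_pi rs
  have mem : ∀ {k}, k * D.s = D.s * k → k * D.r = D.r * k → k ∈ centralizer ({x, D.s} : Set G) :=
    fun h1 h2 => by
      rw [centralizer_pair]
      exact ⟨mem_centralizer_singleton_iff.2 (cx _ h1 h2), mem_centralizer_singleton_iff.2 h1⟩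
  have fx : ∀ k : centralizer ({x, D.s} : Set G), k.1 * D.r = D.r * k →
      (π k)⁻¹ • c = c ∨ (π k)⁻¹ • c = c * Rk.om := fun k hk => by
    obtain ⟨d, b⟩ := Rk.pm_iff.1 ((hπ k⁻¹ _).1 (map_inv π k))
    exact w.of_cong (w.smul d _) (h.cong_of_comm rv b (Commute.inv_left hk))
  have πW : ∀ k : centralizer ({x, D.s} : Set G), k.1 ∈ closure ({D.s, D.r} : Set G) → π k = 1 :=
    fun k hk => (hπ k 1).2 ⟨1, one_mem _, by rw [permEl_one, one_mul]; exact h.ass_one (WQ hk)⟩
  have le : D.O ≤ centralizer ({x, D.s} : Set G) := fun o ho => mem (D.os o ho) (D.or o ho)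
  let f := π.comp (inclusion le)
  have h8 := hM c.1 f.range c.2 c12 (by
    rintro _ ⟨o, rfl⟩
    rw [← map_mul]
    exact πW _ (D.oo o o.2)) (by
    rintro _ ⟨o, rfl⟩
    obtain ⟨o', ho', -, k⟩ := D.fpf o o.2
    have e := πW (⁅(⟨D.a, mem D.as D.ar⟩ : centralizer ({x, D.s} : Set G)), ⟨o', le ho'⟩⁆⁻¹ *
      ⟨o, le o.2⟩) k
    rw [map_mul, map_inv, inv_mul_eq_one, map_commutatorElement] at e
    have := comm_fix (fx ⟨D.a, mem D.as D.ar⟩ D.ar) (fx ⟨o', le ho'⟩ (D.or _ ho'))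
    rw [e] at this
    exact congrArg Subtype.val this)
  have h4 : Nat.card f.ker ≤ 4 := by
    rw [← f4.card_closure, ← card_map_of_injective (K := f.ker) D.O.subtype_injective]
    refine card_le_of_le ?_
    rintro _ ⟨o, ho, rfl⟩
    obtain ⟨d, b⟩ := Rk.pm_iff.1 ((hπ _ _).1 ho)
    rw [permEl_one, mul_one] at b
    exact OQ o o.2 ((h.ass_mem_iff b).2 (sg_center_of_fix c12 w ((h.sq_iff rv).1 f4.xx)
      (h.cong_of_comm rv b (D.or o o.2))))
  have := card_eq_card_quotient_mul_card_subgroup f.ker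
  rw [Nat.card_congr (QuotientGroup.quotientKerEquivRange f).toEquiv, D.card] at this
  have := Nat.mul_le_mul h8 h4
  omega

theorem c2Stmt (hM : M12RStmt) : C2Stmt := by
  intro D θ R h a
  have sZ := h.zz
  have rZ : D.r ∈ ZZ := D.ys ▸ ZZ_cj _ sZ
  have nQ := ut_not_mem h a
  obtain ⟨x, xZ, sQ, rQ, un, hc⟩ := c1Stmt _ _ θ R h rZ a
  have f4 : Four D.s D.r := ⟨D.s1, ZZ_ne rZ, D.ss, ZZ_sq rZ, D.rs, a.comm.symm⟩
  have WQ : closure ({D.s, D.r} : Set M) ≤ Qz x := (closure_le _).2 (by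
    rintro _ (rfl | rfl) <;> assumption)
  have sW : D.s ∈ closure ({D.s, D.r} : Set M) := subset_closure (by simp)
  have rW : D.r ∈ closure ({D.s, D.r} : Set M) := subset_closure (by simp)
  have xs := sym xZ sZ sQ
  have xW : x ∉ closure ({D.s, D.r} : Set M) := fun k => by
    rcases f4.mem_closure.1 k with e | e | e | e
    · exact ZZ_ne xZ e
    · exact nQ (e ▸ rQ)
    · exact nQ (e ▸ xs)
    · exact nQ ((mul_mem_cancel_left h.hQ.mem).1 (e ▸ xs))
  obtain ⟨θ', R', h', rs⟩ := exists_ms xZ sZ sQ fun e => xW (e ▸ sW)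
  obtain ⟨v, c, rv, w, c12⟩ := hc θ' R' h' rs
  refine c2_gen hM D h' f4 rs rv w c12 xW fun n hn => ?_
  have k : ∀ y ∈ closure ({D.s, D.r} : Set M), y ∈ Qz (n * x * n⁻¹) := fun y hy => by
    have := WQ (conj_mem_of_mem_normalizer (inv_mem hn) hy)
    rwa [Qz_cj xZ, mem_cj, ← inv_inv n, inv_inv n⁻¹]
  exact mul_inv_eq_iff_eq_mul.1 (un _ (ZZ_cj n xZ) (k _ sW) (k _ rW))

end Cfsg.Agent.H95.Par
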