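import Cfsg.Agent.Lead.PcDefs

/-! Project PL: the abstract end game from the count and the fixed point lemma. -/

set_option autoImplicit false

namespace Cfsg.Agent.Lead.Pc.AbZero

open Subgroup
open scoped commutatorElement

universe u

theorem ab0 : Ab0Stmt.{u} := by
  intro G _ _ V W a cnt ⟨t, h1, h2, h3⟩
  by_cases h : ∃ w ∈ W, ⁅t, w⁆ ∉ V
  · exact ⟨t, h2, a.sq t h1 h2, h3 h, Or.inr h⟩
  push Not at h
  have e : {x : G | ∃ w ∈ W, x = ⁅t, w⁆} = (V : Set G) := by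
    refine Set.eq_of_subset_of_ncard_le ?_ ?_ (Set.toFinite _)
    · rintro _ ⟨w, hw, rfl⟩
      exact h w hw
    · exact Nat.le_of_dvd ((Set.ncard_pos (Set.toFinite _)).2 ⟨_, 1, W.one_mem, rfl⟩) (cnt t h1 h2)
  have im : ∀ v ∈ V, ∃ w ∈ W, ⁅t, w⁆ = v := fun v hv => by
    obtain ⟨w, hw, e'⟩ := (e ▸ hv : v ∈ {x : G | ∃ w ∈ W, x = ⁅t, w⁆})
    exact ⟨w, hw, e'.symm⟩
  refine ⟨t, h2, a.sq t h1 h2, fun v hv => ?_, Or.inl im⟩
  obtain ⟨w, hw, rfl⟩ := im v hv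
  have wi : w⁻¹ = w := inv_eq_of_mul_eq_one_right (a.el w hw)
  have c1 := a.cen _ h2 w hw
  have c2 := a.cen _ (a.nW.conj_mem w hw t) w hw
  rw [commutatorElement_def, wi]
  calc t * (t * w * t⁻¹ * w) = t * t * w * t⁻¹ * w := by simp only [mul_assoc]
    _ = w * (t * w * t⁻¹) * t := by rw [c1]; group
    _ = _ := by rw [← c2]

end Cfsg.Agent.Lead.Pc.AbZero
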